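import Cfsg.Agent.Lib.Char.GaloisConj
import Cfsg.Agent.Lib.Char.SchurBound
import Mathlib.RingTheory.RootsOfUnity.Complex
import Mathlib.Data.Nat.Totient

/-!
Eigenvalues of an element `z` of prime power order `p ^ (n + 1)` and of its power `x` of order `p`.
-/

set_option autoImplicit false

open Finset

namespace CfsgLib.Case.CyclicPairs

/-- Discrete Fourier inversion for sums of roots of unity. -/
theorem fourier {q : ℕ} (hq : 0 < q) {ι : Type*} [Fintype ι] (μ : ι → ℂ) (hμ : ∀ i, μ i ^ q = 1)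
    {c : ℂ} (hc : c ^ q = 1) [DecidablePred fun i => μ i = c] :
    ∑ k ∈ range q, (∑ i, μ i ^ k) * c⁻¹ ^ k =
      (q : ℂ) * (univ.filter fun i => μ i = c).card := by
  have hc0 : c ≠ 0 := fun h => by
    rw [h, zero_pow hq.ne'] at hc
    exact zero_ne_one hc
  have key : ∀ i, ∑ k ∈ range q, μ i ^ k * c⁻¹ ^ k = if μ i = c then (q : ℂ) else 0 := by
    intro i
    simp only [← mul_pow]
    split_ifs with h
    · rw [h, mul_inv_cancel₀ hc0]; simp
    · have hne : μ i * c⁻¹ ≠ 1 := fun h1 => h (by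
        rw [← mul_one c, ← h1, mul_comm (μ i), ← mul_assoc, mul_inv_cancel₀ hc0, one_mul])
      rw [geom_sum_eq hne, mul_pow, hμ i, inv_pow, hc, inv_one, one_mul, sub_self, zero_div]
  calc ∑ k ∈ range q, (∑ i, μ i ^ k) * c⁻¹ ^ k = ∑ i, ∑ k ∈ range q, μ i ^ k * c⁻¹ ^ k := by
        simp only [Finset.sum_mul]; exact Finset.sum_comm
    _ = _ := by
        simp only [key, Finset.sum_ite, Finset.sum_const_zero, add_zero, Finset.sum_const,
          nsmul_eq_mul]
        ring

theorem mul_mod_bij {p : ℕ} (hp : p.Prime) {j : ℕ} (hj : ¬ p ∣ j) (f : ℕ → ℂ)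
    (hf : ∀ k, f (k % p) = f k) : ∑ k ∈ range p, f (j * k) = ∑ k ∈ range p, f k := by
  refine Finset.sum_nbij' (fun k => j * k % p) (fun k => (Finset.range p).filter
      (fun l => j * l % p = k) |>.sup id) ?_ ?_ ?_ ?_ ?_
  all_goals
    have hinj : ∀ a < p, ∀ b < p, j * a % p = j * b % p → a = b := by
      intro a ha b hb h
      have h1 : a ≡ b [MOD p] := Nat.ModEq.cancel_left_of_coprime
        (hp.coprime_iff_not_dvd.2 hj) h
      exact h1.eq_of_lt_of_lt ha hb
    have hsurj : ∀ k < p, ∃ l < p, j * l % p = k := by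
      intro k hk
      have himg : (range p).image (fun l => j * l % p) = range p := by
        refine Finset.eq_of_subset_of_card_le ?_ (le_of_eq ?_)
        · intro m hm
          obtain ⟨l, -, rfl⟩ := Finset.mem_image.1 hm
          exact Finset.mem_range.2 (Nat.mod_lt _ hp.pos)
        · rw [Finset.card_image_of_injOn]
          intro a ha b hb h
          exact hinj a (Finset.mem_range.1 ha) b (Finset.mem_range.1 hb) h
      obtain ⟨l, hl, h⟩ := Finset.mem_image.1 (himg.symm ▸ Finset.mem_range.2 hk :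
        k ∈ (range p).image (fun l => j * l % p))
      exact ⟨l, Finset.mem_range.1 hl, h⟩
    have hsup : ∀ k < p, ∀ l < p, j * l % p = k →
        ((Finset.range p).filter (fun l => j * l % p = k)).sup id = l := by
      intro k _ l hl h
      rw [show (Finset.range p).filter (fun l => j * l % p = k) = {l} from
        Finset.eq_singleton_iff_unique_mem.2 ⟨Finset.mem_filter.2 ⟨Finset.mem_range.2 hl, h⟩,
          fun m hm => hinj m (Finset.mem_range.1 (Finset.mem_filter.1 hm).1) l hl
            ((Finset.mem_filter.1 hm).2.trans h.symm)⟩, Finset.sup_singleton]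
      rfl
  · intro a ha
    simp only [Finset.mem_range] at *
    exact Nat.mod_lt _ hp.pos
  · intro k hk
    simp only [Finset.mem_range] at *
    obtain ⟨l, hl, h⟩ := hsurj k hk
    rwa [hsup k hk l hl h]
  · intro a ha
    simp only [Finset.mem_range] at *
    exact hsup _ (Nat.mod_lt _ hp.pos) a ha rfl
  · intro k hk
    simp only [Finset.mem_range] at *
    obtain ⟨l, hl, h⟩ := hsurj k hk
    rwa [hsup k hk l hl h]
  · intro a _
    exact (hf _).symm

universe u

variable {G : Type u} [Group G] [Finite G] {p n : ℕ} [Fact p.Prime] {z x : G}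

open scoped Classical in
/-- The set of exponents `j` with `x ^ j` conjugate to `x`. -/
noncomputable def conjExps (p : ℕ) (x : G) : Finset ℕ :=
  (Finset.Icc 1 (p - 1)).filter fun j => IsConj x (x ^ j)

open scoped Classical in
/-- The conjugates of `χ` under the Galois action by power maps. -/
noncomputable def galOrbit (χ : Cfsg.IrrCharacter G) : Finset (Cfsg.IrrCharacter G) :=
  @Finset.filter _ (fun ψ => ∃ k : ℕ, k.Coprime (Nat.card G) ∧
    ∀ g, (ψ : G → ℂ) g = (χ : G → ℂ) (g ^ k)) (Classical.decPred _) (Set.toFinite Set.univ).toFinset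

theorem mem_galOrbit {χ ψ : Cfsg.IrrCharacter G} :
    ψ ∈ galOrbit χ ↔ ∃ k : ℕ, k.Coprime (Nat.card G) ∧
      ∀ g, (ψ : G → ℂ) g = (χ : G → ℂ) (g ^ k) := by
  simp [galOrbit]

/-- The eigenvalue data of a character at an element of prime power order. -/
theorem exists_eigen_data (hz : orderOf z = p ^ (n + 1)) (hx : x = z ^ p ^ n)
    (χ : Cfsg.IrrCharacter G) :
    ∃ d b : ℕ, (χ : G → ℂ) 1 = d ∧ 0 < d ∧
      ∑ j ∈ Finset.Icc 1 (p - 1), (χ : G → ℂ) (x ^ j) = ((p : ℂ) - 1) * d - p * b ∧
      ((χ : G → ℂ) x ≠ (χ : G → ℂ) 1 →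
        (conjExps p x).card ≤ b ∧ (p - 1) * p ^ n ≤ (galOrbit χ).card * b) := by
  classical
  have hp : p.Prime := Fact.out
  have hχ := CfsgLib.Char.IsIrrCharacter.isCharacter χ.2
  obtain ⟨d, μ, hμ, -, hd, hpow⟩ := CfsgLib.Char.exists_eigenvalues_char hχ z
  rw [hz] at hμ
  have hd0 : 0 < d := by
    rcases Nat.eq_zero_or_pos d with rfl | h
    · exact absurd (by simpa using hd) (CfsgLib.Char.IsIrrCharacter.apply_one_ne_zero χ.2)
    · exact h
  set ν : Fin d → ℂ := fun i => μ i ^ p ^ n with hν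
  have hνp : ∀ i, ν i ^ p = 1 := fun i => by
    rw [hν, ← pow_mul, ← pow_succ, hμ i]
  have hxpow : ∀ k : ℕ, (χ : G → ℂ) (x ^ k) = ∑ i, ν i ^ k := fun k => by
    rw [hx, ← pow_mul, hpow]
    exact Finset.sum_congr rfl fun i _ => by rw [hν, pow_mul]
  set S := univ.filter fun i => ν i ≠ 1 with hS
  have hxp : x ^ p = 1 := by rw [hx, ← pow_mul, ← pow_succ, ← hz, pow_orderOf_eq_one]
  refine ⟨d, S.card, hd, hd0, ?_, fun hne => ?_⟩
  · have h := fourier hp.pos ν hνp (c := 1) (one_pow p)
    rw [Finset.range_eq_Ico, Finset.sum_eq_sum_Ico_succ_bot hp.pos] at h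
    simp only [inv_one, one_pow, mul_one, pow_zero, Finset.sum_const, Finset.card_univ,
      Fintype.card_fin, nsmul_eq_mul] at h
    have hI : Finset.Ico (0 + 1) p = Finset.Icc 1 (p - 1) := by
      ext j; simp; omega
    rw [hI] at h
    simp only [hxpow]
    have hc : ((univ.filter fun i => ν i = 1).card : ℂ) = (d : ℂ) - (S.card : ℂ) := by
      have h2 := Finset.card_filter_add_card_filter_not (s := (univ : Finset (Fin d)))
        (fun i => ν i = 1)
      simp only [Finset.card_univ, Fintype.card_fin] at h2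
      rw [eq_sub_iff_add_eq]
      exact_mod_cast h2
    rw [hc] at h
    linear_combination h
  obtain ⟨i₀, hi₀⟩ : ∃ i, ν i ≠ 1 := by
    by_contra h
    simp only [not_exists, ne_eq, not_not] at h
    apply hne
    have := hxpow 1
    simp only [pow_one] at this
    rw [this, hd]
    simp [h]
  have hνprim : IsPrimitiveRoot (ν i₀) p := by
    have := orderOf_eq_prime (hνp i₀) hi₀
    exact this ▸ IsPrimitiveRoot.orderOf (ν i₀)
  have hμprim : IsPrimitiveRoot (μ i₀) (p ^ (n + 1)) := by
    have := orderOf_eq_prime_pow (x := μ i₀) (p := p) (n := n) hi₀ (hμ i₀)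
    exact this ▸ IsPrimitiveRoot.orderOf (μ i₀)
  constructor
  · -- conjugate powers of `x` move the eigenvalues freely
    have hsub : (conjExps p x).image (fun j => ν i₀ ^ j) ⊆ S.image ν := by
      intro c hc
      obtain ⟨j, hj, rfl⟩ := Finset.mem_image.1 hc
      obtain ⟨hjI, hconj⟩ := Finset.mem_filter.1 hj
      have hjp : ¬ p ∣ j := fun h => by
        have := Nat.le_of_dvd (Finset.mem_Icc.1 hjI).1 h
        have := (Finset.mem_Icc.1 hjI).2
        have := hp.two_le
        omega
      have hc1 : (ν i₀ ^ j) ^ p = 1 := by rw [← pow_mul, mul_comm, pow_mul, hνp, one_pow]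
      have h1 := fourier hp.pos ν hνp hc1
      have h2 := fourier hp.pos ν hνp (hνp i₀)
      have hconjk : ∀ k, (χ : G → ℂ) (x ^ (j * k)) = (χ : G → ℂ) (x ^ k) := by
        intro k
        obtain ⟨g, hg⟩ := isConj_iff.1 hconj
        rw [pow_mul, ← hg, conj_pow]
        exact CfsgLib.Char.IsIrrCharacter.isClassFunction χ.2 _ _
      have h3 : ∑ k ∈ range p, (∑ i, ν i ^ k) * (ν i₀ ^ j)⁻¹ ^ k =
          ∑ k ∈ range p, (∑ i, ν i ^ k) * (ν i₀)⁻¹ ^ k := by
        rw [← mul_mod_bij hp hjp (fun k => (∑ i, ν i ^ k) * (ν i₀)⁻¹ ^ k) (fun k => by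
          simp only [← hxpow]
          rw [pow_eq_pow_mod k hxp]
          congr 1
          exact (pow_eq_pow_mod k (by rw [inv_pow, hνp, inv_one])).symm)]
        refine Finset.sum_congr rfl fun k _ => ?_
        rw [← hxpow, ← hxpow, hconjk, ← inv_pow, ← pow_mul]
      rw [h1, h2] at h3
      have h4 := mul_left_cancel₀ (Nat.cast_ne_zero.2 hp.ne_zero) h3
      have h5 : 0 < (univ.filter fun i => ν i = ν i₀ ^ j).card := by
        rw [Nat.cast_injective h4]
        exact Finset.card_pos.2 ⟨i₀, by simp⟩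
      obtain ⟨l, hl⟩ := Finset.card_pos.1 h5
      refine Finset.mem_image.2 ⟨l, Finset.mem_filter.2 ⟨Finset.mem_univ _, ?_⟩,
        (Finset.mem_filter.1 hl).2⟩
      rw [(Finset.mem_filter.1 hl).2]
      exact fun h => hjp ((hνprim.pow_eq_one_iff_dvd j).1 h)
    calc (conjExps p x).card = ((conjExps p x).image (fun j => ν i₀ ^ j)).card := by
          rw [Finset.card_image_of_injOn]
          intro a ha b hb h
          have h1 := (Finset.mem_Icc.1 (Finset.mem_filter.1 ha).1).2
          have h2 := (Finset.mem_Icc.1 (Finset.mem_filter.1 hb).1).2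
          have := hp.two_le
          exact hνprim.pow_inj (by omega) (by omega) h
      _ ≤ (S.image ν).card := Finset.card_le_card hsub
      _ ≤ S.card := Finset.card_image_le
  · -- Galois conjugates carry all primitive roots
    set q := p ^ (n + 1) with hq
    have hq0 : 0 < q := pow_pos hp.pos _
    have : NeZero q := ⟨hq0.ne'⟩
    let Pv : Cfsg.IrrCharacter G → Finset ℂ := fun ψ =>
      (primitiveRoots q ℂ).filter fun c =>
        ∑ k ∈ range q, (ψ : G → ℂ) (z ^ k) * c⁻¹ ^ k ≠ 0
    have hval : ∀ (k : ℕ) (c : ℂ), c ^ q = 1 →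
        ∑ l ∈ range q, (χ : G → ℂ) ((z ^ l) ^ k) * c⁻¹ ^ l =
          (q : ℂ) * (univ.filter fun i => μ i ^ k = c).card := by
      intro k c hc
      rw [← fourier hq0 (fun i => μ i ^ k) (fun i => by rw [← pow_mul, mul_comm, pow_mul, hμ, one_pow]) hc]
      refine Finset.sum_congr rfl fun l _ => ?_
      rw [← pow_mul, hpow]
      congr 1
      exact Finset.sum_congr rfl fun i _ => by rw [← pow_mul, mul_comm]
    have hPv : ∀ ψ ∈ galOrbit χ, (Pv ψ).card ≤ S.card := by
      intro ψ hψ
      obtain ⟨k, -, hk⟩ := mem_galOrbit.1 hψ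
      refine (Finset.card_le_card (t := S.image fun i => μ i ^ k) fun c hc => ?_).trans
        Finset.card_image_le
      obtain ⟨hc1, hc2⟩ := Finset.mem_filter.1 hc
      have hcp := (mem_primitiveRoots hq0).1 hc1
      simp only [hk] at hc2
      rw [hval k c hcp.pow_eq_one] at hc2
      obtain ⟨i, hi⟩ : (univ.filter fun i => μ i ^ k = c).Nonempty := by
        rw [← Finset.card_pos]
        exact Nat.pos_of_ne_zero fun h => hc2 (by rw [h, Nat.cast_zero, mul_zero])
      refine Finset.mem_image.2 ⟨i, Finset.mem_filter.2 ⟨Finset.mem_univ _, fun h => ?_⟩,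
        (Finset.mem_filter.1 hi).2⟩
      have h' : c ^ p ^ n = 1 := by
        rw [← (Finset.mem_filter.1 hi).2, ← pow_mul, mul_comm, pow_mul]
        rw [hν] at h
        simp only at h
        rw [h, one_pow]
      have := Nat.le_of_dvd (pow_pos hp.pos n) (hcp.dvd_of_pow_eq_one _ h')
      rw [hq, pow_succ] at this
      have := hp.two_le
      nlinarith [pow_pos hp.pos n]
    have hcover : primitiveRoots q ℂ ⊆ (galOrbit χ).biUnion Pv := by
      intro c hc
      have hcp := (mem_primitiveRoots hq0).1 hc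
      obtain ⟨i, -, hco, hci⟩ := (hμprim.isPrimitiveRoot_iff).1 hcp
      obtain ⟨m, hm, hpm⟩ : ∃ m, Nat.card G = p ^ (Nat.card G).factorization p * m ∧ ¬ p ∣ m :=
        ⟨_, (Nat.ordProj_mul_ordCompl_eq_self _ _).symm,
          Nat.not_dvd_ordCompl hp Nat.card_pos.ne'⟩
      set a := (Nat.card G).factorization p with ha
      have hpi : ¬ p ∣ i := fun h => by
        have := Nat.dvd_gcd h (dvd_pow_self p (Nat.succ_ne_zero n) : p ∣ q)
        rw [hco] at this
        exact hp.not_dvd_one this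
      obtain ⟨k, hk1, hk2⟩ := Nat.chineseRemainder
        (Nat.Coprime.pow_left a (hp.coprime_iff_not_dvd.2 hpm)) i 1
      have hkco : k.Coprime (Nat.card G) := by
        rw [hm]
        refine Nat.Coprime.mul_right ?_ ?_
        · rw [Nat.Coprime, hk1.gcd_eq]
          exact (Nat.Coprime.pow_left a (hp.coprime_iff_not_dvd.2 hpi)).symm
        · rw [Nat.Coprime, hk2.gcd_eq]
          exact Nat.gcd_one_left m
      refine Finset.mem_biUnion.2 ⟨CfsgLib.CharGalois.powIrr hkco χ,
        mem_galOrbit.2 ⟨k, hkco, fun g => rfl⟩, Finset.mem_filter.2 ⟨hc, ?_⟩⟩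
      simp only [CfsgLib.CharGalois.powIrr_apply]
      rw [hval k c hcp.pow_eq_one]
      refine mul_ne_zero (Nat.cast_ne_zero.2 hq0.ne') (Nat.cast_ne_zero.2 ?_)
      refine (Finset.card_pos.2 ⟨i₀, Finset.mem_filter.2 ⟨Finset.mem_univ _, ?_⟩⟩).ne'
      rw [← hci]
      have hqa : q ∣ p ^ a := by
        rw [hq]
        exact pow_dvd_pow p ((hp.pow_dvd_iff_le_factorization Nat.card_pos.ne').1
          (by rw [← hq, ← hz]; exact orderOf_dvd_natCard z))
      exact pow_eq_pow_of_modEq (hk1.of_dvd hqa) (hμ i₀)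
    calc (p - 1) * p ^ n = (primitiveRoots q ℂ).card := by
          rw [Complex.card_primitiveRoots, hq, Nat.totient_prime_pow_succ hp, mul_comm]
      _ ≤ ((galOrbit χ).biUnion Pv).card := Finset.card_le_card hcover
      _ ≤ ∑ ψ ∈ galOrbit χ, (Pv ψ).card := Finset.card_biUnion_le
      _ ≤ (galOrbit χ).card * S.card := by
          rw [← smul_eq_mul]
          exact Finset.sum_le_card_nsmul _ _ _ hPv

end CfsgLib.Case.CyclicPairs
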