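import Mathlib.Data.Real.Basic
import Mathlib.Algebra.BigOperators.Group.Finset.Basic
import Mathlib.Algebra.Order.BigOperators.Group.Finset
import Mathlib.Data.Nat.Prime.Basic
import Mathlib.Algebra.BigOperators.Ring.Finset
import Mathlib.Algebra.BigOperators.Field
import Mathlib.Tactic.Linarith
import Mathlib.Tactic.FieldSimp
import Mathlib.Tactic.Ring

/-!
The numerical contradiction from the moments of a column of the principal block.
-/

set_option autoImplicit false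

open Finset

namespace CfsgLib.Case.CyclicPairs

/-- The three moments are incompatible with the lower bounds on eigenvalue multiplicities. -/
theorem endgame {ι : Type*} {p n e : ℕ} (hp : p.Prime) (hp2 : p ≠ 2) (he2 : 2 ≤ e)
    (he : e ≤ p - 1) (s : Finset ι) (t : ι → ℝ) (d b : ι → ℕ) (orb : ι → Finset ι) {W : ℝ}
    (hW : W = ((p : ℝ) - 1) * e * (p : ℝ) ^ (n + 1))
    (h2 : ∑ i ∈ s, t i ^ 2 = W - ((p : ℝ) - 1) ^ 2)
    (h3 : ∑ i ∈ s, t i ^ 3 / d i = ((p : ℝ) - 2) * W - ((p : ℝ) - 1) ^ 3)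
    (h1 : ∑ i ∈ s, (d i : ℝ) * t i = -((p : ℝ) - 1))
    (ht : ∀ i ∈ s, t i = ((p : ℝ) - 1) * d i - p * b i) (hd : ∀ i ∈ s, 0 < d i)
    (hb : ∀ i ∈ s, e ≤ b i) (horb : ∀ i ∈ s, (p - 1) * p ^ n ≤ (orb i).card * b i)
    (hsub : ∀ i ∈ s, t i ≠ 0 → orb i ⊆ s) (hconst : ∀ i ∈ s, ∀ j ∈ orb i, t j = t i) : False := by
  classical
  have hp3 : 3 ≤ p := by
    have := hp.two_le
    omega
  have hpR : (3 : ℝ) ≤ p := by exact_mod_cast hp3
  have heR : (2 : ℝ) ≤ e := by exact_mod_cast he2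
  have hqR : (p : ℝ) ≤ (p : ℝ) ^ (n + 1) := le_self_pow₀ (by linarith) (Nat.succ_ne_zero n)
  set Q := (p : ℝ) ^ (n + 1) with hQ
  set V := W - ((p : ℝ) - 1) ^ 2 with hV
  have hVf : V = ((p : ℝ) - 1) * (e * Q - ((p : ℝ) - 1)) := by rw [hV, hW]; ring
  have heQ : 2 * (p : ℝ) ≤ e * Q := mul_le_mul heR hqR (by linarith) (by linarith)
  by_cases hsmall : p = 3 ∧ n = 0
  · -- the Sylow subgroup of order three
    obtain ⟨rfl, rfl⟩ := hsmall
    obtain rfl : e = 2 := by omega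
    have hW' : W = 12 := by rw [hW, hQ]; norm_num
    subst hW'
    norm_num at h2 h3 h1 ht
    have hterm : ∀ i ∈ s, t i ^ 3 / d i ≤ t i ^ 2 / 2 ∧
        (t i ^ 3 / d i = t i ^ 2 / 2 → 0 ≤ t i) := by
      intro i hi
      have hdR : (0 : ℝ) < d i := by exact_mod_cast hd i hi
      have hsq : t i ^ 2 ≤ 8 := h2 ▸ Finset.single_le_sum (fun j _ => sq_nonneg (t j)) hi
      rcases le_or_gt (t i) 0 with hneg | hpos
      · have h4 : t i ^ 3 / d i ≤ 0 := by
          refine div_nonpos_of_nonpos_of_nonneg ?_ hdR.le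
          nlinarith [sq_nonneg (t i)]
        refine ⟨h4.trans (by positivity), fun h => ?_⟩
        have : t i ^ 2 = 0 := le_antisymm (by linarith) (sq_nonneg _)
        rw [pow_eq_zero_iff two_ne_zero] at this
        exact this.ge
      · refine ⟨?_, fun _ => hpos.le⟩
        obtain ⟨k, hk⟩ : ∃ k : ℤ, t i = k := ⟨2 * (d i : ℤ) - 3 * b i, by rw [ht i hi]; push_cast; ring⟩
        have hk1 : (1 : ℤ) ≤ k := by
          have : (0 : ℝ) < k := hk ▸ hpos
          exact_mod_cast this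
        have hk2 : k ≤ 2 := by
          by_contra h
          have : (3 : ℝ) ≤ k := by exact_mod_cast (not_le.1 h : (2 : ℤ) < k)
          rw [hk] at hsq
          nlinarith
        have hkd : k + 6 ≤ 2 * (d i : ℤ) := by
          have h4 := ht i hi
          rw [hk] at h4
          have h5 : k = 2 * (d i : ℤ) - 3 * b i := by exact_mod_cast h4
          have := hb i hi
          omega
        have hd4 : (4 : ℝ) ≤ d i := by
          have : 4 ≤ d i := by omega
          exact_mod_cast this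
        have hk2R : t i ≤ 2 := by rw [hk]; exact_mod_cast hk2
        rw [div_le_div_iff₀ hdR two_pos]
        nlinarith [sq_nonneg (t i)]
    have hsum : ∑ i ∈ s, t i ^ 3 / d i = ∑ i ∈ s, t i ^ 2 / 2 := by
      rw [h3, ← Finset.sum_div, h2]; norm_num
    have heq := (Finset.sum_eq_sum_iff_of_le fun i hi => (hterm i hi).1).1 hsum
    have : 0 ≤ ∑ i ∈ s, (d i : ℝ) * t i :=
      Finset.sum_nonneg fun i hi => mul_nonneg (Nat.cast_nonneg _) ((hterm i hi).2 (heq i hi))
    linarith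
  -- the general case
  have hVpos : 0 < V := by
    rw [hVf]; exact mul_pos (by linarith) (by linarith)
  set δ := ((p : ℝ) - 1) ^ 2 / V with hδ
  obtain ⟨γ, hγ0, hγ, hρ0, hγb⟩ : ∃ γ : ℝ, 0 ≤ γ ∧ γ ^ 2 ≤ p ∧ 0 < (p : ℝ) - 2 - δ ∧
      1 + δ ≤ γ * ((p : ℝ) - 2 - δ) := by
    have hδV : δ * V = ((p : ℝ) - 1) ^ 2 := div_mul_cancel₀ _ hVpos.ne'
    rcases Nat.eq_or_lt_of_le hp3 with h | h
    · subst h
      have hn : 1 ≤ n := by
        rcases Nat.eq_zero_or_pos n with hn | hn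
        · exact absurd ⟨rfl, hn⟩ hsmall
        · exact hn
      obtain rfl : e = 2 := by omega
      have hQ9 : (9 : ℝ) ≤ Q := by
        rw [hQ]
        calc (9 : ℝ) = ((3 : ℕ) : ℝ) ^ 2 := by norm_num
          _ ≤ ((3 : ℕ) : ℝ) ^ (n + 1) := pow_le_pow_right₀ (by norm_num) (by omega)
      have hV32 : 32 ≤ V := by rw [hVf]; push_cast; linarith
      have hδ8 : δ ≤ 1 / 8 := by
        rw [hδ, div_le_iff₀ hVpos]; push_cast; linarith
      refine ⟨9 / 7, by norm_num, by norm_num, by push_cast; linarith, by push_cast; linarith⟩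
    · have hp5 : 5 ≤ p := by
        rcases Nat.eq_or_lt_of_le h with h4 | h4
        · exact absurd (h4 ▸ hp) (by decide)
        · omega
      have hp5R : (5 : ℝ) ≤ p := by exact_mod_cast hp5
      have hδ1 : δ ≤ 1 := by
        rw [hδ, div_le_one hVpos, hVf]
        nlinarith
      exact ⟨1, zero_le_one, by linarith, by linarith, by linarith⟩
  set ρ := (p : ℝ) - 2 - δ with hρ
  have h3' : ∑ i ∈ s, t i ^ 3 / d i = ρ * ∑ i ∈ s, t i ^ 2 := by
    rw [h3, h2, hρ, sub_mul _ δ, hδ, div_mul_cancel₀ _ hVpos.ne', hV]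
    ring
  obtain ⟨i, hi, hti, hid⟩ : ∃ i ∈ s, t i ≠ 0 ∧ ρ * d i ≤ t i := by
    by_contra hcon
    have hle : ∀ i ∈ s, t i ^ 3 / d i ≤ ρ * t i ^ 2 ∧ (t i ≠ 0 → t i ^ 3 / d i < ρ * t i ^ 2) := by
      intro i hi
      by_cases h0 : t i = 0
      · simp [h0]
      · have hdR : (0 : ℝ) < d i := by exact_mod_cast hd i hi
        have hlt : t i < ρ * d i := lt_of_not_ge fun h => hcon ⟨i, hi, h0, h⟩
        have : t i ^ 3 / d i < ρ * t i ^ 2 := by
          rw [div_lt_iff₀ hdR]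
          nlinarith [mul_lt_mul_of_pos_right hlt (by positivity : 0 < t i ^ 2)]
        exact ⟨this.le, fun _ => this⟩
    obtain ⟨i, hi, hne⟩ : ∃ i ∈ s, t i ≠ 0 := by
      by_contra h
      rw [Finset.sum_eq_zero (fun i hi => by
        rw [not_not.1 fun h' => h ⟨i, hi, h'⟩, zero_pow two_ne_zero])] at h2
      linarith
    have := Finset.sum_lt_sum (fun j hj => (hle j hj).1) ⟨i, hi, (hle i hi).2 hne⟩
    rw [h3', Finset.mul_sum] at this
    exact lt_irrefl _ this
  have hdR : (1 : ℝ) ≤ d i := by exact_mod_cast hd i hi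
  have htpos : 0 < t i := lt_of_lt_of_le (mul_pos hρ0 (by linarith)) hid
  have hpb : (p : ℝ) * b i ≤ γ * t i := by
    have hkey : ((p : ℝ) * b i) * ρ ≤ (1 + δ) * t i := by
      have h4 : (p : ℝ) * b i = ((p : ℝ) - 1) * d i - t i := by rw [ht i hi]; ring
      rw [h4]
      have h5 := mul_le_mul_of_nonneg_left hid (by linarith : (0 : ℝ) ≤ (p : ℝ) - 1)
      rw [hρ] at h5 ⊢
      linarith
    have h5 := hkey.trans (mul_le_mul_of_nonneg_right hγb htpos.le)
    exact le_of_mul_le_mul_right (by linarith : (p : ℝ) * b i * ρ ≤ γ * t i * ρ) hρ0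
  have hk : ((orb i).card : ℝ) * t i ^ 2 ≤ V := by
    rw [← h2]
    calc ((orb i).card : ℝ) * t i ^ 2 = ∑ j ∈ orb i, t j ^ 2 := by
          rw [Finset.sum_congr rfl fun j hj => by rw [hconst i hi j hj], Finset.sum_const,
            nsmul_eq_mul]
      _ ≤ ∑ j ∈ s, t j ^ 2 :=
          Finset.sum_le_sum_of_subset_of_nonneg (hsub i hi hti) fun _ _ _ => sq_nonneg _
  have hφ : ((p : ℝ) - 1) * (p : ℝ) ^ n ≤ (orb i).card * (b i : ℝ) := by
    have h4 : (((p - 1) * p ^ n : ℕ) : ℝ) ≤ (((orb i).card * b i : ℕ) : ℝ) := by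
      exact_mod_cast horb i hi
    rw [Nat.cast_mul, Nat.cast_mul, Nat.cast_pow, Nat.cast_sub hp.one_le, Nat.cast_one] at h4
    exact h4
  have hbe : (e : ℝ) ≤ b i := by exact_mod_cast hb i hi
  have hpn : 0 < ((p : ℝ) - 1) * (p : ℝ) ^ n * e := by
    have : (0 : ℝ) < (p : ℝ) ^ n := pow_pos (by linarith) n
    exact mul_pos (mul_pos (by linarith) this) (by linarith)
  have hchain : (p : ℝ) ^ 2 * (((p : ℝ) - 1) * (p : ℝ) ^ n * e) ≤ γ ^ 2 * V := by
    calc (p : ℝ) ^ 2 * (((p : ℝ) - 1) * (p : ℝ) ^ n * e)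
        ≤ (p : ℝ) ^ 2 * ((orb i).card * (b i : ℝ) * b i) := by
          refine mul_le_mul_of_nonneg_left ?_ (sq_nonneg _)
          exact mul_le_mul hφ hbe (by linarith) (by positivity)
      _ = (orb i).card * ((p : ℝ) * b i) ^ 2 := by ring
      _ ≤ (orb i).card * (γ * t i) ^ 2 := by
          refine mul_le_mul_of_nonneg_left (pow_le_pow_left₀ (by positivity) hpb 2) (Nat.cast_nonneg _)
      _ = γ ^ 2 * ((orb i).card * t i ^ 2) := by ring
      _ ≤ γ ^ 2 * V := mul_le_mul_of_nonneg_left hk (sq_nonneg _)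
  have hlt : γ ^ 2 * V < (p : ℝ) * W ∨ γ = 0 := by
    rcases hγ0.lt_or_eq with h | h
    · left
      have hWV : V < W := by rw [hV]; nlinarith
      calc γ ^ 2 * V < γ ^ 2 * W := mul_lt_mul_of_pos_left hWV (pow_pos h 2)
        _ ≤ (p : ℝ) * W := mul_le_mul_of_nonneg_right hγ (by linarith)
    · exact Or.inr h.symm
  have hpW : (p : ℝ) * W = (p : ℝ) ^ 2 * (((p : ℝ) - 1) * (p : ℝ) ^ n * e) := by
    rw [hW, hQ, pow_succ]; ring
  rcases hlt with h | h
  · rw [hpW] at h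
    linarith
  · rw [h] at hchain
    have : 0 < (p : ℝ) ^ 2 * (((p : ℝ) - 1) * (p : ℝ) ^ n * e) :=
      mul_pos (pow_pos (by linarith) 2) hpn
    linarith

end CfsgLib.Case.CyclicPairs
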