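import Cfsg.Agent.Lib.Transfer.AbelianSylow
import Cfsg.Agent.Lib.PLocal.HallHigman
import Cfsg.Agent.Lib.PLocal.Constrained
import Cfsg.Agent.Lib.Solvable.Core

/-!
Local facts for a group with cyclic Sylow `p`-subgroups: elements of order `p`, their centralizers,
and subgroups generated by two of them.
-/

set_option autoImplicit false

namespace CfsgLib.Case.CyclicPairs

variable {G : Type*} [Group G] [Finite G] {p : ℕ} [Fact p.Prime]

theorem zpowers_eq_of_isCyclic {A : Type*} [Group A] [Finite A] [IsCyclic A] {a b : A}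
    (ha : orderOf a = p) (hb : orderOf b = p) : Subgroup.zpowers a = Subgroup.zpowers b := by
  have hp : p.Prime := Fact.out
  letI := IsCyclic.commGroup (α := A)
  have key : ∀ x : A, orderOf x = p →
      Subgroup.zpowers x = (powMonoidHom p : A →* A).ker := by
    intro x hx
    refine Subgroup.eq_of_le_of_card_ge ?_ ?_
    · rw [Subgroup.zpowers_le, MonoidHom.mem_ker, powMonoidHom_apply]
      exact orderOf_dvd_iff_pow_eq_one.1 hx.dvd
    · rw [IsCyclic.card_powMonoidHom_ker, Nat.card_zpowers, hx]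
      exact Nat.gcd_le_right _ hp.pos
  rw [key a ha, key b hb]

/-- All `p`-subgroups are cyclic. -/
theorem isCyclic_of_isPGroup (P : Sylow p G) (hP : IsCyclic (P : Subgroup G)) {S : Subgroup G}
    (hS : IsPGroup p S) : IsCyclic S := by
  obtain ⟨Q, hQ⟩ := hS.exists_le_sylow
  haveI : IsCyclic (Q : Subgroup G) := isCyclic_of_surjective _ (P.equiv Q).surjective
  exact isCyclic_of_injective (Subgroup.inclusion hQ) (Subgroup.inclusion_injective hQ)

theorem zpowers_eq_of_mem_pGroup (P : Sylow p G) (hP : IsCyclic (P : Subgroup G)) {S : Subgroup G}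
    (hS : IsPGroup p S) {x y : G} (hxS : x ∈ S) (hyS : y ∈ S) (hx : orderOf x = p)
    (hy : orderOf y = p) : Subgroup.zpowers x = Subgroup.zpowers y := by
  haveI := isCyclic_of_isPGroup P hP hS
  have h := zpowers_eq_of_isCyclic (p := p) (a := (⟨x, hxS⟩ : S)) (b := ⟨y, hyS⟩)
    (by rw [Subgroup.orderOf_mk]; exact hx) (by rw [Subgroup.orderOf_mk]; exact hy)
  have h' := congrArg (Subgroup.map S.subtype) h
  simpa [MonoidHom.map_zpowers] using h'

theorem isPGroup_zpowers_of_orderOf {x : G} (hx : orderOf x = p) :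
    IsPGroup p (Subgroup.zpowers x) :=
  IsPGroup.of_card (n := 1) (by rw [Nat.card_zpowers, hx, pow_one])

/-- Every element of order `p` is conjugate into every subgroup of order `p`. -/
theorem exists_conj_mem_zpowers (P : Sylow p G) (hP : IsCyclic (P : Subgroup G)) {x y : G}
    (hx : orderOf x = p) (hy : orderOf y = p) :
    ∃ g : G, g * y * g⁻¹ ∈ Subgroup.zpowers x := by
  obtain ⟨Q, hQ⟩ := (isPGroup_zpowers_of_orderOf hx).exists_le_sylow
  obtain ⟨R, hR⟩ := (isPGroup_zpowers_of_orderOf hy).exists_le_sylow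
  obtain ⟨g, hg⟩ := MulAction.exists_smul_eq G R Q
  have hmem : g * y * g⁻¹ ∈ (Q : Subgroup G) := by
    rw [← hg, Sylow.coe_subgroup_smul]
    exact ⟨y, hR (Subgroup.mem_zpowers y), rfl⟩
  have ho : orderOf (g * y * g⁻¹) = p := by
    rw [← hy]
    exact orderOf_injective (MulAut.conj g).toMonoidHom (MulAut.conj g).injective y
  refine ⟨g, ?_⟩
  rw [zpowers_eq_of_mem_pGroup P hP Q.2 (hQ (Subgroup.mem_zpowers x)) hmem hx ho]
  exact Subgroup.mem_zpowers _

/-- If some element of order `p` of a cyclic Sylow subgroup is central in its normalizer and lies in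
the commutator subgroup, there is a contradiction; otherwise there is a normal `p`-complement. -/
theorem hasNormalPComplement_of_fixed (P : Sylow p G) (hP : IsCyclic (P : Subgroup G)) {x : G}
    (hxP : x ∈ (P : Subgroup G)) (hx : orderOf x = p)
    (hfix : ∀ n ∈ Subgroup.normalizer ((P : Subgroup G) : Set G), n * x * n⁻¹ = x) :
    Cfsg.HasNormalPComplement p G := by
  have hp : p.Prime := Fact.out
  have hPc : IsMulCommutative (P : Subgroup G) := inferInstance
  by_cases hA : ⁅(P : Subgroup G), Subgroup.normalizer ((P : Subgroup G) : Set G)⁆ = ⊥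
  · refine ⟨P, _, inferInstance, MonoidHom.ker_transferSylow_isComplement' P fun n hn => ?_⟩
    refine Subgroup.mem_centralizer_iff.mpr fun y hy => ?_
    have := Subgroup.commutator_eq_bot_iff_le_centralizer.mp hA hy
    exact (Subgroup.mem_centralizer_iff.mp this n hn).symm
  · exfalso
    set A := ⁅(P : Subgroup G), Subgroup.normalizer ((P : Subgroup G) : Set G)⁆ with hAdef
    have hAP : A ≤ (P : Subgroup G) := Subgroup.le_normalizer_iff_commutator_le_left.mp le_rfl
    obtain ⟨a, ha⟩ := exists_prime_orderOf_dvd_card' (G := A) p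
      (((P.2.to_le hAP).card_eq_or_dvd).resolve_left (fun h => hA (Subgroup.card_eq_one.mp h)))
    have hxA : x ∈ A := by
      have h := zpowers_eq_of_mem_pGroup P hP P.2 (hAP a.2) hxP
        ((Subgroup.orderOf_coe a).trans ha) hx
      exact (h ▸ (Subgroup.zpowers_le.2 a.2) : Subgroup.zpowers x ≤ A) (Subgroup.mem_zpowers x)
    have h1 := CfsgLib.Transfer.abelian_sylow_centralPart_inf_commutator P hPc hxP
      (Subgroup.mem_centralizer_iff.mpr fun n hn => by
        have := hfix n hn
        calc n * x = n * x * n⁻¹ * n := by group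
          _ = x * n := by rw [this])
      ((Subgroup.commutator_mono le_top le_top).trans_eq (commutator_def G).symm hxA)
    rw [h1, orderOf_one] at hx
    exact hp.ne_one hx.symm

/-- The centralizer of an element of order `p` has a normal `p`-complement of index `|P|`. -/
theorem exists_complement (P : Sylow p G) (hP : IsCyclic (P : Subgroup G)) {x : G}
    (hx : orderOf x = p) :
    ∃ K : Subgroup (Subgroup.centralizer ({x} : Set G)), K.Normal ∧ ¬ p ∣ Nat.card K ∧
      K.index = Nat.card (P : Subgroup G) := by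
  obtain ⟨Q, hQ⟩ := (isPGroup_zpowers_of_orderOf hx).exists_le_sylow
  have hxQ : x ∈ (Q : Subgroup G) := hQ (Subgroup.mem_zpowers x)
  set C := Subgroup.centralizer ({x} : Set G) with hC
  haveI hQc : IsCyclic (Q : Subgroup G) := isCyclic_of_surjective _ (P.equiv Q).surjective
  have hQC : (Q : Subgroup G) ≤ C := fun y hy => Subgroup.mem_centralizer_singleton_iff.2 (by
    have := mul_comm' (⟨y, hy⟩ : (Q : Subgroup G)) ⟨x, hxQ⟩
    exact congrArg Subtype.val this)
  let Q' : Sylow p C := Q.subtype hQC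
  have hQ'c : IsCyclic (Q' : Subgroup C) :=
    isCyclic_of_surjective _ (Subgroup.subgroupOfEquivOfLe hQC).symm.surjective
  have hxC : x ∈ C := hQC hxQ
  obtain ⟨R, N, hN, hcomp⟩ := hasNormalPComplement_of_fixed Q' hQ'c (x := (⟨x, hxC⟩ : C)) hxQ
    (by rw [Subgroup.orderOf_mk]; exact hx) (fun n _ => Subtype.ext (by
      show (n : G) * x * (n : G)⁻¹ = x
      rw [Subgroup.mem_centralizer_singleton_iff.1 n.2]; group))
  refine ⟨N, hN, ?_, ?_⟩
  · rw [← hcomp.index_eq_card]
    exact R.not_dvd_index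
  · rw [hcomp.symm.index_eq_card, R.card_eq_multiplicity, ← Q'.card_eq_multiplicity]
    show Nat.card ((Q : Subgroup G).subgroupOf C) = _
    rw [Nat.card_congr (Subgroup.subgroupOfEquivOfLe hQC).toEquiv, Q.card_eq_multiplicity,
      ← P.card_eq_multiplicity]

/-- Two elements of order `p` generating a `p`-solvable subgroup are congruent modulo a `p'`-kernel. -/
theorem pair_of_isPSolvable (P : Sylow p G) (hP : IsCyclic (P : Subgroup G)) {a b : G}
    (ha : orderOf a = p) (hb : orderOf b = p)
    (hs : Cfsg.IsPSolvable p (Subgroup.closure ({a, b} : Set G))) :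
    (∃ j₀ ∈ Finset.Icc 1 (p - 1), ∀ j ∈ Finset.Icc 1 (p - 1),
        (¬ p ∣ orderOf (a * b ^ j) ↔ j = j₀)) ∧ ¬ p ∣ orderOf ((a * b) ^ p) := by
  have hp : p.Prime := Fact.out
  set H := Subgroup.closure ({a, b} : Set G) with hH
  let a' : H := ⟨a, Subgroup.subset_closure (by simp)⟩
  let b' : H := ⟨b, Subgroup.subset_closure (by simp)⟩
  set O := Cfsg.pPrimeCore p H with hO
  haveI : O.Normal := CfsgLib.Solvable.pPrimeCore_normal p H
  let f : H →* H ⧸ O := QuotientGroup.mk' O
  have hf : Function.Surjective f := QuotientGroup.mk'_surjective O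
  have hOc : (Nat.card O).Coprime p := CfsgLib.Solvable.pPrimeCore_card_coprime p H
  have hker : ∀ g : H, f g = 1 → ¬ p ∣ orderOf g := by
    intro g hg hd
    have hgO : g ∈ O := (QuotientGroup.eq_one_iff g).1 hg
    exact hp.coprime_iff_not_dvd.1 hOc.symm (hd.trans (Subgroup.orderOf_dvd_natCard _ hgO))
  have hfa : orderOf (f a') = p := orderOf_eq_prime (by
      rw [← map_pow, show a' ^ p = 1 from Subtype.ext (by simp [a', ← ha, pow_orderOf_eq_one]),
        map_one]) (fun h => hker a' h (by simp [a', ← Subgroup.orderOf_coe, ha]))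
  have hfb : orderOf (f b') = p := orderOf_eq_prime (by
      rw [← map_pow, show b' ^ p = 1 from Subtype.ext (by simp [b', ← hb, pow_orderOf_eq_one]),
        map_one]) (fun h => hker b' h (by simp [b', ← Subgroup.orderOf_coe, hb]))
  -- Sylow subgroups of the quotient are cyclic
  obtain ⟨R₀⟩ : Nonempty (Sylow p H) := inferInstance
  have hR₀ : IsCyclic (R₀ : Subgroup H) := by
    haveI := isCyclic_of_isPGroup P hP (R₀.2.map H.subtype)
    exact isCyclic_of_injective (H.subtype.subgroupMap (R₀ : Subgroup H)) (fun u v h =>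
      Subtype.ext (H.subtype_injective (congrArg Subtype.val h :)))
  have hR : IsCyclic ((R₀.mapSurjective hf : Sylow p (H ⧸ O)) : Subgroup (H ⧸ O)) :=
    isCyclic_of_surjective (f.subgroupMap (R₀ : Subgroup H)) (f.subgroupMap_surjective _)
  -- elements of order p lie in `O_p`
  have hQ : ∀ z : H ⧸ O, orderOf z = p → z ∈ Cfsg.pCore p (H ⧸ O) := by
    intro z hz
    refine CfsgLib.PLoc.centralizer_pCore_le_self (CfsgLib.PLoc.isPSolvable_of_surjective hf hs)
      (CfsgLib.Solvable.pPrimeCore_quotient_eq_bot O hO) ?_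
    haveI := CfsgLib.Solvable.pCore_normal (p := p) (H ⧸ O)
    obtain ⟨S, hS⟩ := (isPGroup_zpowers_of_orderOf hz).exists_le_sylow
    have hQS : Cfsg.pCore p (H ⧸ O) ≤ (S : Subgroup (H ⧸ O)) :=
      CfsgLib.Solvable.pCore_le_sylow S
    haveI : IsCyclic (S : Subgroup (H ⧸ O)) :=
      isCyclic_of_isPGroup _ hR S.2
    refine Subgroup.mem_centralizer_iff.2 fun y hy => ?_
    exact congrArg Subtype.val
      (mul_comm' (⟨y, hQS hy⟩ : (S : Subgroup (H ⧸ O))) ⟨z, hS (Subgroup.mem_zpowers z)⟩)
  have hgen : Subgroup.closure ({f a', f b'} : Set (H ⧸ O)) = ⊤ := by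
    have h1 : Subgroup.closure (((↑) : H → G) ⁻¹' {a, b}) = (⊤ : Subgroup H) :=
      Subgroup.closure_closure_coe_preimage
    have h2 := congrArg (Subgroup.map f) h1
    rw [MonoidHom.map_closure, Subgroup.map_top_of_surjective f hf] at h2
    rw [← h2]
    congr 1
    ext z
    constructor
    · rintro (rfl | rfl)
      · exact ⟨a', by simp [a'], rfl⟩
      · exact ⟨b', by simp [b'], rfl⟩
    · rintro ⟨g, hg, rfl⟩
      rcases hg with hg | hg
      · exact Or.inl (congrArg f (Subtype.ext hg))
      · exact Or.inr (congrArg f (Subtype.ext hg))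
  haveI hcyc : IsCyclic (H ⧸ O) := by
    haveI := isCyclic_of_isPGroup _ hR (CfsgLib.Solvable.pCore_isPGroup p (H ⧸ O))
    have htop : Cfsg.pCore p (H ⧸ O) = ⊤ := top_le_iff.1 (hgen ▸ (Subgroup.closure_le _).2 (by
      rintro z (rfl | rfl)
      · exact hQ _ hfa
      · exact hQ _ hfb))
    rw [htop] at this
    exact isCyclic_of_surjective _ (Subgroup.topEquiv (G := H ⧸ O)).surjective
  have hz : Subgroup.zpowers (f b') = ⊤ := by
    rw [← hgen]
    refine le_antisymm (Subgroup.zpowers_le.2 (Subgroup.subset_closure (by simp)))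
      ((Subgroup.closure_le _).2 ?_)
    rintro z (rfl | rfl)
    · rw [← zpowers_eq_of_isCyclic hfa hfb]; exact Subgroup.mem_zpowers _
    · exact Subgroup.mem_zpowers _
  have hiff : ∀ g : H, ¬ p ∣ orderOf g ↔ f g = 1 := by
    refine fun g => ⟨fun h => ?_, hker g⟩
    have h1 : orderOf (f g) ∣ p := by
      rw [← hfb, ← Nat.card_zpowers (f b')]
      exact Subgroup.orderOf_dvd_natCard _ (hz ▸ Subgroup.mem_top _)
    rcases (Nat.dvd_prime hp).1 h1 with h2 | h2
    · exact orderOf_eq_one_iff.1 h2
    · exact absurd (h2 ▸ orderOf_map_dvd f g) h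
  have hmem : f a' ∈ Submonoid.powers (f b') :=
    mem_powers_iff_mem_zpowers.2 (hz ▸ Subgroup.mem_top _)
  obtain ⟨i, hi⟩ := hmem
  have hi0 : i % p ≠ 0 := fun h => by
    have : f a' = 1 := by
      rw [← hi, show (fun n : ℕ => f b' ^ n) i = f b' ^ i from rfl, ← pow_mod_orderOf, hfb, h,
        pow_zero]
    rw [this, orderOf_one] at hfa
    exact hp.ne_one hfa.symm
  have hlt := Nat.mod_lt i hp.pos
  constructor
  · refine ⟨p - i % p, Finset.mem_Icc.2 ⟨by omega, by omega⟩, fun j hj => ?_⟩
    have hco : orderOf (a * b ^ j) = orderOf (a' * b' ^ j) := by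
      rw [← Subgroup.orderOf_coe]; rfl
    rw [hco, hiff, map_mul, map_pow, ← hi]
    show f b' ^ i * f b' ^ j = 1 ↔ _
    rw [← pow_add, ← orderOf_dvd_iff_pow_eq_one, hfb]
    rw [Finset.mem_Icc] at hj
    constructor
    · intro h
      obtain ⟨c, hc⟩ := h
      have h2 := Nat.div_add_mod i p
      have : p ∣ (i % p + j) := by
        refine (Nat.dvd_add_right (dvd_mul_right p (i / p))).1 ?_
        rw [← add_assoc, h2, hc]; exact dvd_mul_right p c
      obtain ⟨d, hd⟩ := this
      have hd1 : d = 1 := by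
        rcases d with _ | _ | d
        · omega
        · rfl
        · have h3 : p * 2 ≤ p * (d + 1 + 1) := Nat.mul_le_mul_left _ (by omega)
          omega
      subst hd1; omega
    · rintro rfl
      have h2 := Nat.div_add_mod i p
      exact ⟨i / p + 1, by rw [mul_add, mul_one]; omega⟩
  · have hco : orderOf ((a * b) ^ p) = orderOf ((a' * b') ^ p) := by
      rw [← Subgroup.orderOf_coe]; rfl
    rw [hco, hiff, map_pow, ← orderOf_dvd_iff_pow_eq_one, ← hfb, ← Nat.card_zpowers (f b')]
    exact Subgroup.orderOf_dvd_natCard _ (hz ▸ Subgroup.mem_top _)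

end CfsgLib.Case.CyclicPairs
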