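import Cfsg.Agent.Lib.Case.CyclicPairs.Moments
import Cfsg.Agent.Lib.Case.CyclicPairs.Eigen
import Cfsg.Agent.Lib.Case.CyclicPairs.Endgame
import Cfsg.Agent.Lib.Blk83.PrincipalKernel
import Cfsg.Agent.Lib.BlockReg.Integral
import Cfsg.Agent.Lib.CharTools.Basic

/-!
A simple group with cyclic Sylow `p`-subgroups, `p` odd, has two elements of order `p` generating a
subgroup that is not `p`-solvable.
-/

set_option autoImplicit false

open Finset
open scoped ComplexConjugate

namespace CfsgLib.Case.CyclicPairs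

universe u

variable {G : Type u} [Group G] [Fintype G] [DecidableEq G] {p : ℕ} [Fact p.Prime]

open CfsgLib.Invol.BlockCol (pBlock)

theorem eq_principal_of_const {χ : Cfsg.IrrCharacter G} (h : ∀ g, (χ : G → ℂ) g = (χ : G → ℂ) 1) :
    χ = CfsgLib.Char.principalIrr := by
  refine Subtype.ext (CfsgLib.Char.eq_of_classInner_ne_zero χ.2
    CfsgLib.Char.principalIrr.2 ?_)
  rw [Cfsg.classInner]
  simp only [CfsgLib.Char.principalIrr_apply, map_one, mul_one, h, Finset.sum_const,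
    Finset.card_univ, nsmul_eq_mul, Nat.card_eq_fintype_card]
  exact mul_ne_zero (inv_ne_zero (Nat.cast_ne_zero.2 Fintype.card_ne_zero))
    (mul_ne_zero (Nat.cast_ne_zero.2 Fintype.card_ne_zero)
      (CfsgLib.Char.IsIrrCharacter.apply_one_ne_zero χ.2))

omit [DecidableEq G] in
theorem pow_ne_of_lt {x : G} (hx : orderOf x = p) {j : ℕ} (hj : j ∈ Finset.Icc 1 (p - 1)) :
    p.Coprime j ∧ orderOf (x ^ j) = p := by
  have hp : p.Prime := Fact.out
  have hc : p.Coprime j := hp.coprime_iff_not_dvd.2 fun h => by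
    have := Nat.le_of_dvd (Finset.mem_Icc.1 hj).1 h
    have := (Finset.mem_Icc.1 hj).2
    have := hp.two_le
    omega
  exact ⟨hc, by rw [orderOf_pow, hx, hc.gcd_eq_one, Nat.div_one]⟩

omit [DecidableEq G] in
theorem exists_exp {x w : G} (hx : orderOf x = p) (hw : orderOf w = p)
    (h : w ∈ Subgroup.zpowers x) : ∃ j ∈ Finset.Icc 1 (p - 1), w = x ^ j := by
  have hp : p.Prime := Fact.out
  obtain ⟨i, rfl⟩ := mem_powers_iff_mem_zpowers.2 h
  refine ⟨i % p, Finset.mem_Icc.2 ⟨?_, by have := Nat.mod_lt i hp.pos; omega⟩, ?_⟩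
  · rcases Nat.eq_zero_or_pos (i % p) with h0 | h0
    · have h1 : x ^ i = 1 := by rw [← pow_mod_orderOf, hx, h0, pow_zero]
      simp only [h1, orderOf_one] at hw
      exact absurd hw.symm hp.ne_one
    · exact h0
  · show x ^ i = x ^ (i % p)
    rw [← hx, pow_mod_orderOf]

/-- The main contradiction. -/
theorem false_of_pairs (hs : IsSimpleGroup G) (hna : ¬ IsMulCommutative G) (P : Sylow p G)
    (hP : IsCyclic (P : Subgroup G)) (hdvd : p ∣ Nat.card G) (hp2 : p ≠ 2)
    (hpair : ∀ a b : G, orderOf a = p → orderOf b = p →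
      (∃ j₀ ∈ Finset.Icc 1 (p - 1), ∀ j ∈ Finset.Icc 1 (p - 1),
        (¬ p ∣ orderOf (a * b ^ j) ↔ j = j₀)) ∧ ¬ p ∣ orderOf ((a * b) ^ p)) : False := by
  classical
  have hp : p.Prime := Fact.out
  have hcompl := fun a (ha : orderOf a = p) => exists_complement P hP ha
  obtain ⟨M, hM⟩ := CfsgLib.BlockReg.exists_isPModular hp
  -- a generator of the Sylow subgroup and its power of order `p`
  obtain ⟨z₀, hz₀⟩ := hP.exists_ofOrder_eq_natCard
  obtain ⟨r, hr⟩ := IsPGroup.iff_card.1 P.2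
  obtain ⟨n, rfl⟩ : ∃ n, r = n + 1 := Nat.exists_eq_succ_of_ne_zero fun h => by
    have h2 := P.card_eq_multiplicity
    rw [hr, h, pow_zero] at h2
    have h3 := Nat.Prime.factorization_pos_of_dvd hp Nat.card_pos.ne' hdvd
    have := Nat.one_lt_pow h3.ne' hp.one_lt
    omega
  set z : G := (z₀ : G) with hz
  have hzo : orderOf z = p ^ (n + 1) := by rw [hz, Subgroup.orderOf_coe, hz₀, hr]
  set x : G := z ^ p ^ n with hx
  have hxo : orderOf x = p := by
    rw [hx, orderOf_pow, hzo, Nat.gcd_eq_right (pow_dvd_pow p (Nat.le_succ n)),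
      pow_succ, Nat.mul_div_cancel_left _ (pow_pos hp.pos n)]
  have hxP : x ∈ (P : Subgroup G) := pow_mem z₀.2 _
  set E := conjExps p x with hE
  have hEmem : ∀ j, j ∈ E ↔ j ∈ Finset.Icc 1 (p - 1) ∧ IsConj x (x ^ j) := fun j => by
    simp [hE, conjExps]
  -- at least two exponents
  have he2 : 2 ≤ E.card := by
    by_contra hlt
    have h1 : 1 ∈ E := (hEmem 1).2 ⟨Finset.mem_Icc.2 ⟨le_rfl, by have := hp.two_le; omega⟩,
      by rw [pow_one]⟩
    have hE1 : ∀ j ∈ E, j = 1 := fun j hj =>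
      Finset.card_le_one.1 (by omega) j hj 1 h1
    obtain ⟨Q, N, hN, hcomp⟩ := hasNormalPComplement_of_fixed P hP hxP hxo fun g hg => by
      have hmem : g * x * g⁻¹ ∈ (P : Subgroup G) := (Subgroup.mem_normalizer_iff.1 hg x).1 hxP
      have ho : orderOf (g * x * g⁻¹) = p :=
        (orderOf_injective (MulAut.conj g).toMonoidHom (MulAut.conj g).injective x).trans hxo
      obtain ⟨j, hj, hje⟩ := exists_exp hxo ho (by
        rw [zpowers_eq_of_mem_pGroup P hP P.2 hxP hmem hxo ho]; exact Subgroup.mem_zpowers _)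
      obtain rfl := hE1 j ((hEmem j).2 ⟨hj, isConj_iff.2 ⟨g, hje⟩⟩)
      rwa [pow_one] at hje
    rcases hN.eq_bot_or_eq_top with rfl | rfl
    · have hQ : (Q : Subgroup G) = ⊤ := Subgroup.isComplement'_bot_left.1 hcomp
      haveI := isCyclic_of_isPGroup P hP Q.2
      rw [hQ] at this
      haveI : IsCyclic G := isCyclic_of_surjective _ (Subgroup.topEquiv (G := G)).surjective
      exact hna inferInstance
    · have hQ : (Q : Subgroup G) = ⊥ := Subgroup.isComplement'_top_left.1 hcomp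
      have h2 := Q.card_eq_multiplicity
      rw [hQ, Subgroup.card_bot] at h2
      have h3 := Nat.Prime.factorization_pos_of_dvd hp Nat.card_pos.ne' hdvd
      have := Nat.one_lt_pow h3.ne' hp.one_lt
      omega
  have heP : E.card ≤ p - 1 := by
    refine (Finset.card_le_card (t := Finset.Icc 1 (p - 1)) fun j hj => ((hEmem j).1 hj).1).trans ?_
    rw [Nat.card_Icc, Nat.add_sub_cancel]
  -- centralizers of elements of order p
  obtain ⟨K, -, hK, hKi⟩ := exists_complement P hP hxo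
  set k₀ := Nat.card K with hk₀
  have hk₀pos : 0 < k₀ := Nat.card_pos
  have hCx : k₀ * Nat.card (P : Subgroup G) = Nat.card (Subgroup.centralizer ({x} : Set G)) := by
    rw [hk₀, ← hKi, K.card_mul_index]
  have hcentpow : ∀ j ∈ Finset.Icc 1 (p - 1), Subgroup.centralizer ({x ^ j} : Set G) =
      Subgroup.centralizer ({x} : Set G) := by
    intro j hj
    obtain ⟨i, -, hi⟩ := Nat.exists_mul_mod_eq_one_of_coprime (pow_ne_of_lt hxo hj).1.symm hp.one_lt
    have hback : (x ^ j) ^ i = x := by rw [← pow_mul, ← pow_mod_orderOf, hxo, hi, pow_one]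
    ext g
    simp only [Subgroup.mem_centralizer_singleton_iff]
    constructor
    · intro h
      have h' : Commute g ((x ^ j) ^ i) := Commute.pow_right h i
      rw [hback] at h'
      exact h'.eq
    · exact fun h => ((Commute.pow_right h j : Commute g (x ^ j))).eq
  have hconjA : ∀ a : G, orderOf a = p → ∃ c : G, ∃ j ∈ Finset.Icc 1 (p - 1), c * a * c⁻¹ = x ^ j := by
    intro a ha
    obtain ⟨c, hc⟩ := exists_conj_mem_zpowers P hP hxo ha
    obtain ⟨j, hj, hje⟩ := exists_exp hxo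
      ((orderOf_injective (MulAut.conj c).toMonoidHom (MulAut.conj c).injective a).trans ha) hc
    exact ⟨c, j, hj, hje⟩
  have hk₀all : ∀ a : G, orderOf a = p →
      k₀ * Nat.card (P : Subgroup G) = Nat.card (Subgroup.centralizer ({a} : Set G)) := by
    intro a ha
    obtain ⟨c, j, hj, hje⟩ := hconjA a ha
    rw [hCx, ← hcentpow j hj, ← hje]
    refine Nat.card_congr ((MulAut.conj c⁻¹).toEquiv.subtypeEquiv fun g => ?_)
    simp only [MulEquiv.toEquiv_eq_coe, EquivLike.coe_coe, MulAut.conj_apply, inv_inv,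
      Subgroup.mem_centralizer_singleton_iff]
    constructor
    · intro h
      calc c⁻¹ * g * c * a = c⁻¹ * (g * (c * a * c⁻¹)) * c := by group
        _ = a * (c⁻¹ * g * c) := by rw [h]; group
    · intro h
      calc g * (c * a * c⁻¹) = c * ((c⁻¹ * g * c) * a) * c⁻¹ := by group
        _ = c * a * c⁻¹ * g := by rw [h]; group
  -- the automizer count
  set MA := (univ.filter fun g : G => g * x * g⁻¹ ∈ Subgroup.zpowers x).card with hMA
  have hMAall : ∀ a : G, orderOf a = p →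
      (univ.filter fun g : G => g * a * g⁻¹ ∈ Subgroup.zpowers x).card = MA := by
    intro a ha
    obtain ⟨c, j, hj, hje⟩ := hconjA a ha
    refine Finset.card_equiv (Equiv.mulRight c⁻¹) fun g => ?_
    simp only [Finset.mem_filter, Finset.mem_univ, true_and, Equiv.coe_mulRight]
    rw [show g * a * g⁻¹ = (g * c⁻¹) * (c * a * c⁻¹) * (g * c⁻¹)⁻¹ by group, hje, ← conj_pow]
    obtain ⟨i, -, hi⟩ := Nat.exists_mul_mod_eq_one_of_coprime (pow_ne_of_lt hxo hj).1.symm hp.one_lt
    refine ⟨fun h => ?_, fun h => pow_mem h j⟩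
    have hback : ((g * c⁻¹ * x * (g * c⁻¹)⁻¹) ^ j) ^ i = g * c⁻¹ * x * (g * c⁻¹)⁻¹ := by
      rw [conj_pow, conj_pow, ← pow_mul, ← pow_mod_orderOf x, hxo, hi, pow_one]
    rw [← hback]
    exact pow_mem h i
  have hinjpow : ∀ i ∈ Finset.Icc 1 (p - 1), ∀ j ∈ Finset.Icc 1 (p - 1), x ^ i = x ^ j → i = j := by
    intro i hi j hj h
    have h' : i ≡ j [MOD p] := hxo ▸ pow_eq_pow_iff_modEq.1 h
    have := (Finset.mem_Icc.1 hi).2
    have := (Finset.mem_Icc.1 hj).2
    have := hp.two_le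
    exact h'.eq_of_lt_of_lt (by omega) (by omega)
  have hcntsum : ∀ a : G, orderOf a = p → ∑ j ∈ Finset.Icc 1 (p - 1), cnt a (x ^ j) = MA := by
    intro a ha
    rw [← hMAall a ha]
    simp only [cnt, Finset.card_filter]
    rw [Finset.sum_comm]
    refine Finset.sum_congr rfl fun g _ => ?_
    split_ifs with hg
    · obtain ⟨j, hj, hje⟩ := exists_exp (w := g * a * g⁻¹) hxo
        ((orderOf_injective (MulAut.conj g).toMonoidHom (MulAut.conj g).injective a).trans ha) hg
      rw [Finset.sum_eq_single_of_mem j hj (fun i hi hne => if_neg fun h =>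
        hne (hinjpow i hi j hj (h.symm.trans hje))), if_pos hje]
    · exact Finset.sum_eq_zero fun j _ => if_neg fun h => hg (by
        rw [h]; exact pow_mem (Subgroup.mem_zpowers x) j)
  have hMAe : MA = E.card * (k₀ * Nat.card (P : Subgroup G)) := by
    rw [← hcntsum x hxo, hCx, ← cnt_self_eq, ← Finset.sum_filter_add_sum_filter_not
      (Finset.Icc 1 (p - 1)) (fun j => IsConj x (x ^ j)), Finset.sum_congr rfl (fun j hj =>
        cnt_eq_of_isConj (Finset.mem_filter.1 hj).2), Finset.sum_const, smul_eq_mul,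
      Finset.sum_eq_zero (s := (Finset.Icc 1 (p - 1)).filter fun j => ¬ IsConj x (x ^ j))
        (fun j hj => by
        rw [cnt, Finset.card_eq_zero, Finset.filter_eq_empty_iff]
        exact fun g _ hg => (Finset.mem_filter.1 hj).2 (isConj_iff.2 ⟨g, hg⟩)), add_zero]
    congr 1
    simp [hE, conjExps]
  -- the sums T and S
  let T : Cfsg.IrrCharacter G → ℂ := fun χ => ∑ j ∈ Finset.Icc 1 (p - 1), (χ : G → ℂ) (x ^ j)
  let S : Cfsg.IrrCharacter G → ℂ := fun χ => ∑ a ∈ elts G p, (χ : G → ℂ) a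
  have hST : ∀ χ, (MA : ℂ) * S χ = (Fintype.card G : ℂ) * T χ := by
    intro χ
    calc (MA : ℂ) * S χ = ∑ a ∈ elts G p, ∑ g : G,
          (if g * a * g⁻¹ ∈ Subgroup.zpowers x then (χ : G → ℂ) a else 0) := by
          rw [Finset.mul_sum]
          refine Finset.sum_congr rfl fun a ha => ?_
          rw [← hMAall a (mem_elts.1 ha), ← Finset.sum_filter, Finset.sum_const, nsmul_eq_mul]
      _ = ∑ g : G, T χ := by
          rw [Finset.sum_comm]
          refine Finset.sum_congr rfl fun g _ => ?_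
          rw [← Finset.sum_filter]
          symm
          refine Finset.sum_bij (fun j _ => g⁻¹ * x ^ j * g) ?_ ?_ ?_ ?_
          · intro j hj
            refine Finset.mem_filter.2 ⟨mem_elts.2 ?_, ?_⟩
            · rw [show g⁻¹ * x ^ j * g = MulAut.conj g⁻¹ (x ^ j) by simp]
              exact (orderOf_injective (MulAut.conj g⁻¹).toMonoidHom (MulAut.conj g⁻¹).injective
                _).trans (pow_ne_of_lt hxo hj).2
            · rw [show g * (g⁻¹ * x ^ j * g) * g⁻¹ = x ^ j by group]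
              exact pow_mem (Subgroup.mem_zpowers x) j
          · intro i hi j hj h
            exact hinjpow i hi j hj (mul_left_cancel (mul_right_cancel h))
          · intro a ha
            obtain ⟨ha1, ha2⟩ := Finset.mem_filter.1 ha
            obtain ⟨j, hj, hje⟩ := exists_exp (w := g * a * g⁻¹) hxo ((orderOf_injective (MulAut.conj g).toMonoidHom
              (MulAut.conj g).injective a).trans (mem_elts.1 ha1)) ha2
            refine ⟨j, hj, ?_⟩
            rw [← hje]; group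
          · intro j _
            have h := CfsgLib.Char.IsIrrCharacter.isClassFunction χ.2 (x ^ j) g⁻¹
            rw [inv_inv] at h
            exact h.symm
      _ = _ := by rw [Finset.sum_const, Finset.card_univ, nsmul_eq_mul]
  -- eigenvalue data
  have hdata := fun χ : Cfsg.IrrCharacter G => exists_eigen_data (p := p) hzo hx χ
  choose d b hd hd0 hT hbd using hdata
  let t : Cfsg.IrrCharacter G → ℝ := fun χ => ((p : ℝ) - 1) * d χ - p * b χ
  have hTt : ∀ χ, T χ = ((t χ : ℝ) : ℂ) := fun χ => by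
    show ∑ j ∈ _, _ = _
    rw [hT χ]; simp [t]
  have hTreal : ∀ χ, conj (T χ) = T χ := fun χ => by rw [hTt, Complex.conj_ofReal]
  have hGne : (Fintype.card G : ℂ) ≠ 0 := Nat.cast_ne_zero.2 Fintype.card_ne_zero
  have hMAne : (MA : ℂ) ≠ 0 := by
    refine Nat.cast_ne_zero.2 (Finset.card_pos.2 ⟨1, ?_⟩).ne'
    simp
  have hSreal : ∀ χ, conj (S χ) = S χ := by
    intro χ
    refine mul_left_cancel₀ hMAne ?_
    have h := congrArg conj (hST χ)
    rwa [map_mul, map_mul, map_natCast, map_natCast, hTreal, ← hST] at h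
  -- the moments
  set one : Cfsg.IrrCharacter G := CfsgLib.Char.principalIrr with hone
  have hone_mem : one ∈ pBlock M G := by
    rw [CfsgLib.Invol.BlockCol.mem_pBlock]
    exact CfsgLib.BlockReg.sameBlock_refl hM _
  have hTone : T one = ((p - 1 : ℕ) : ℂ) := by
    show ∑ j ∈ _, _ = _
    simp [hone, CfsgLib.Char.principalIrr_apply]
  have hN : (MA : ℂ) * (elts G p).card = (Fintype.card G : ℂ) * ((p - 1 : ℕ) : ℂ) := by
    rw [← hTone, ← hST]
    simp [S, hone, CfsgLib.Char.principalIrr_apply]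
  have hmom2 : (k₀ : ℂ) * ∑ χ ∈ pBlock M G, T χ ^ 2 = ((p - 1 : ℕ) : ℂ) * MA := by
    calc (k₀ : ℂ) * ∑ χ ∈ pBlock M G, T χ ^ 2
        = ∑ i ∈ Finset.Icc 1 (p - 1), ∑ j ∈ Finset.Icc 1 (p - 1),
            (k₀ : ℂ) * ∑ χ ∈ pBlock M G, (χ : G → ℂ) (x ^ i) * conj ((χ : G → ℂ) (x ^ j)) := by
          rw [Finset.mul_sum]
          simp only [Finset.mul_sum]
          rw [Finset.sum_congr rfl (fun i _ => Finset.sum_comm), Finset.sum_comm]
          refine Finset.sum_congr rfl fun χ _ => ?_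
          simp only [← Finset.mul_sum, ← Finset.sum_mul, ← map_sum]
          show _ = (k₀ : ℂ) * (T χ * conj (T χ))
          rw [hTreal, sq]
      _ = ∑ i ∈ Finset.Icc 1 (p - 1), ((MA : ℕ) : ℂ) := by
          refine Finset.sum_congr rfl fun i hi => ?_
          rw [← hcntsum _ (pow_ne_of_lt hxo hi).2, Nat.cast_sum]
          exact Finset.sum_congr rfl fun j hj => column_pair P hcompl hM (pow_ne_of_lt hxo hi).2
            (pow_ne_of_lt hxo hj).2 (hk₀all _ (pow_ne_of_lt hxo hi).2)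
      _ = _ := by rw [Finset.sum_const, Nat.card_Icc, Nat.add_sub_cancel, nsmul_eq_mul]
  have hmom1 : ∑ χ ∈ pBlock M G, (χ : G → ℂ) 1 * T χ = 0 := by
    show ∑ χ ∈ pBlock M G, (χ : G → ℂ) 1 * ∑ j ∈ _, _ = 0
    simp only [Finset.mul_sum]
    rw [Finset.sum_comm]
    exact Finset.sum_eq_zero fun j hj => column_degree P hcompl hM (pow_ne_of_lt hxo hj).2
  have hmom3 : (k₀ : ℂ) * ∑ χ ∈ pBlock M G, T χ ^ 3 / (χ : G → ℂ) 1 =
      ((p - 1 : ℕ) : ℂ) * ((p - 2 : ℕ) : ℂ) * MA := by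
    have hc := cubic P hcompl hM hk₀all (fun a b ha hb => (hpair a b ha hb).2) hSreal
    have hcount := congrArg (fun m : ℕ => (m : ℂ))
      (singular_count (G := G) (p := p) fun a b ha hb => (hpair a b ha hb).1)
    simp only [Nat.cast_mul, Nat.cast_pow] at hcount
    set Cnt : ℂ := ((∑ a ∈ elts G p, ((elts G p).filter fun b => p ∣ orderOf (a * b)).card : ℕ) : ℂ)
    have hrel : (MA : ℂ) ^ 3 * ∑ χ ∈ pBlock M G, S χ ^ 3 / (χ : G → ℂ) 1 =
        (Fintype.card G : ℂ) ^ 3 * ∑ χ ∈ pBlock M G, T χ ^ 3 / (χ : G → ℂ) 1 := by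
      rw [Finset.mul_sum, Finset.mul_sum]
      refine Finset.sum_congr rfl fun χ _ => ?_
      rw [← mul_div_assoc, ← mul_div_assoc, ← mul_pow, ← mul_pow, hST]
    have hp1 : ((p - 1 : ℕ) : ℂ) ≠ 0 := Nat.cast_ne_zero.2 (by have := hp.two_le; omega)
    refine mul_left_cancel₀ (mul_ne_zero (pow_ne_zero 3 hGne) hp1) ?_
    calc (Fintype.card G : ℂ) ^ 3 * ((p - 1 : ℕ) : ℂ) *
          ((k₀ : ℂ) * ∑ χ ∈ pBlock M G, T χ ^ 3 / (χ : G → ℂ) 1)
        = ((p - 1 : ℕ) : ℂ) * (k₀ : ℂ) * ((MA : ℂ) ^ 3 * ∑ χ ∈ pBlock M G, S χ ^ 3 / (χ : G → ℂ) 1) := by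
          rw [hrel]; ring
      _ = (MA : ℂ) ^ 3 * (Fintype.card G : ℂ) * (((p - 1 : ℕ) : ℂ) * Cnt) := by
          linear_combination (-((p - 1 : ℕ) : ℂ) * (MA : ℂ) ^ 3) * hc
      _ = (MA : ℂ) * (Fintype.card G : ℂ) * ((p - 2 : ℕ) : ℂ) * ((MA : ℂ) * (elts G p).card) ^ 2 := by
          rw [hcount]; ring
      _ = _ := by rw [hN]; ring
  -- pass to real numbers
  set s := (pBlock M G).erase one with hs'
  have hk₀C : (k₀ : ℂ) ≠ 0 := Nat.cast_ne_zero.2 hk₀pos.ne'
  set W : ℝ := ((p : ℝ) - 1) * E.card * (p : ℝ) ^ (n + 1) with hW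
  have hp1 : ((p - 1 : ℕ) : ℂ) = (((p : ℝ) - 1 : ℝ) : ℂ) := by
    rw [Nat.cast_sub hp.one_le]; push_cast; ring
  have hp2' : ((p - 2 : ℕ) : ℂ) = (((p : ℝ) - 2 : ℝ) : ℂ) := by
    rw [Nat.cast_sub hp.two_le]; push_cast; ring
  have hMAC : (MA : ℂ) = (k₀ : ℂ) * (((E.card : ℝ) * (p : ℝ) ^ (n + 1) : ℝ) : ℂ) := by
    rw [hMAe, hr]; push_cast; ring
  have hR2 : ∑ χ ∈ pBlock M G, t χ ^ 2 = W := by
    apply Complex.ofReal_injective
    refine mul_left_cancel₀ hk₀C ?_
    rw [Complex.ofReal_sum, hW]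
    simp only [Complex.ofReal_pow, ← hTt]
    rw [hmom2, hp1, hMAC]; push_cast; ring
  have hR3 : ∑ χ ∈ pBlock M G, t χ ^ 3 / d χ = ((p : ℝ) - 2) * W := by
    apply Complex.ofReal_injective
    refine mul_left_cancel₀ hk₀C ?_
    rw [Complex.ofReal_sum, hW]
    simp only [Complex.ofReal_div, Complex.ofReal_pow, ← hTt, Complex.ofReal_natCast, ← hd]
    rw [hmom3, hp1, hp2', hMAC]; push_cast; ring
  have hR1 : ∑ χ ∈ pBlock M G, (d χ : ℝ) * t χ = 0 := by
    apply Complex.ofReal_injective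
    rw [Complex.ofReal_sum, Complex.ofReal_zero]
    simp only [Complex.ofReal_mul, ← hTt, Complex.ofReal_natCast, ← hd]
    exact hmom1
  have hd1 : d one = 1 := by
    have h := hd one
    simp only [hone, CfsgLib.Char.principalIrr_apply] at h
    exact_mod_cast h.symm
  have ht1 : t one = (p : ℝ) - 1 := by
    apply Complex.ofReal_injective
    rw [← hTt, hTone, hp1]
  rw [← Finset.add_sum_erase _ _ hone_mem, ← hs', ht1] at hR2
  rw [← Finset.add_sum_erase _ _ hone_mem, ← hs', ht1, hd1] at hR3 hR1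
  simp only [Nat.cast_one, div_one, one_mul] at hR3 hR1
  -- facts about the non-principal characters
  have hne : ∀ χ : Cfsg.IrrCharacter G, χ ≠ one → (χ : G → ℂ) x ≠ (χ : G → ℂ) 1 := by
    intro χ hχ hx1
    obtain ⟨N, hN', hNmem, -⟩ := CfsgLib.CharTools.exists_kernel
      (CfsgLib.Char.IsIrrCharacter.isCharacter χ.2)
    rcases hN'.eq_bot_or_eq_top with rfl | rfl
    · have := (hNmem x).2 hx1
      rw [Subgroup.mem_bot] at this
      rw [this, orderOf_one] at hxo
      exact hp.ne_one hxo.symm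
    · exact hχ (eq_principal_of_const fun g => (hNmem g).1 (Subgroup.mem_top g))
  have hconst : ∀ χ : Cfsg.IrrCharacter G, ∀ ψ ∈ galOrbit χ, t ψ = t χ := by
    intro χ ψ hψ
    obtain ⟨k, hk, hψk⟩ := mem_galOrbit.1 hψ
    apply Complex.ofReal_injective
    rw [← hTt, ← hTt]
    have hkp : ¬ p ∣ k := fun h => hp.not_dvd_one (hk ▸ Nat.dvd_gcd h hdvd)
    have hrange : ∀ f : ℕ → ℂ, ∑ j ∈ Finset.Icc 1 (p - 1), f j = (∑ j ∈ Finset.range p, f j) - f 0 := by
      intro f
      rw [Finset.range_eq_Ico, Finset.sum_eq_sum_Ico_succ_bot hp.pos, add_sub_cancel_left]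
      congr 1
    show ∑ j ∈ _, _ = ∑ j ∈ _, _
    simp only [hψk, ← pow_mul]
    rw [hrange (fun j => (χ : G → ℂ) (x ^ (j * k))), hrange (fun j => (χ : G → ℂ) (x ^ j))]
    congr 1
    · simp only [mul_comm _ k]
      refine mul_mod_bij hp hkp (fun j => (χ : G → ℂ) (x ^ j)) fun j => ?_
      show (χ : G → ℂ) (x ^ (j % p)) = _
      rw [← hxo, pow_mod_orderOf]
    · rw [zero_mul]
  refine endgame hp hp2 he2 heP s t d b galOrbit (W := W) hW (by linarith) (by linarith)
    (by linarith) (fun χ _ => rfl) (fun χ _ => hd0 χ)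
    (fun χ hχ => (hbd χ (hne χ (Finset.ne_of_mem_erase hχ))).1)
    (fun χ hχ => (hbd χ (hne χ (Finset.ne_of_mem_erase hχ))).2) ?_ (fun χ _ => hconst χ)
  intro χ hχ _ ψ hψ
  obtain ⟨k, hk, hψk⟩ := mem_galOrbit.1 hψ
  refine Finset.mem_erase.2 ⟨fun h => Finset.ne_of_mem_erase hχ (eq_principal_of_const fun g => ?_), ?_⟩
  · obtain ⟨g', rfl⟩ := (CfsgLib.CharGalois.pow_bijective hk).2 g
    rw [h] at hψk
    show (χ : G → ℂ) (g' ^ k) = _
    rw [← hψk g', ← one_pow (M := G) k, ← hψk 1]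
    rfl
  · rw [show ψ = CfsgLib.CharGalois.powIrr hk χ from Subtype.ext (funext hψk),
      CfsgLib.Invol.BlockCol.mem_pBlock]
    exact CfsgLib.Blk83.powIrr_mem hM hk
      (CfsgLib.Invol.BlockCol.mem_pBlock.1 (Finset.mem_of_mem_erase hχ))

end CfsgLib.Case.CyclicPairs
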