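import Cfsg.Agent.Lib.Case.CyclicPairs.Local
import Cfsg.Agent.Lib.Invol.SectionAverage
import Cfsg.Agent.Lib.SmallOrder.PrincipalColumns
import Cfsg.Agent.Lib.Blk83.PairCount

/-!
Column moments of the principal block over the elements of order `p`, when their centralizers have
normal `p`-complements of index the order of a Sylow subgroup.
-/

set_option autoImplicit false

open Finset
open scoped ComplexConjugate

namespace CfsgLib.Case.CyclicPairs

universe u

variable {G : Type u} [Group G] [Fintype G] [DecidableEq G] {p : ℕ} [Fact p.Prime]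

open CfsgLib.Invol.BlockCol (pBlock)

/-- The elements of order `p`. -/
noncomputable def elts (G : Type u) [Group G] [Fintype G] [DecidableEq G] (p : ℕ) : Finset G :=
  univ.filter fun a => orderOf a = p

theorem mem_elts {a : G} : a ∈ elts G p ↔ orderOf a = p := by simp [elts]

/-- The number of elements conjugating `a` to `w`. -/
def cnt (a w : G) : ℕ := (univ.filter fun g => g * a * g⁻¹ = w).card

theorem cnt_self_eq (a : G) : cnt a a = Nat.card (Subgroup.centralizer ({a} : Set G)) := by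
  classical
  rw [cnt, Nat.card_eq_fintype_card, Fintype.card_subtype]
  congr 1
  ext g
  simp only [Finset.mem_filter, Finset.mem_univ, true_and, Subgroup.mem_centralizer_singleton_iff]
  exact mul_inv_eq_iff_eq_mul

theorem cnt_eq_of_isConj {a w : G} (h : IsConj a w) : cnt a w = cnt a a := by
  obtain ⟨c, rfl⟩ := isConj_iff.1 h
  refine Finset.card_equiv (Equiv.mulLeft c⁻¹) fun g => ?_
  simp only [Finset.mem_filter, Finset.mem_univ, true_and, Equiv.coe_mulLeft]
  rw [show c⁻¹ * g * a * (c⁻¹ * g)⁻¹ = c⁻¹ * (g * a * g⁻¹) * c by group]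
  constructor
  · intro h; rw [h]; group
  · intro h
    rw [show g * a * g⁻¹ = c * (c⁻¹ * (g * a * g⁻¹) * c) * c⁻¹ by group, h]

variable (P : Sylow p G) (hP : ∀ a : G, orderOf a = p →
  ∃ K : Subgroup (Subgroup.centralizer ({a} : Set G)), K.Normal ∧ ¬ p ∣ Nat.card K ∧
    K.index = Nat.card (P : Subgroup G))

include hP

variable {M : Ideal Cfsg.AlgInt} (hM : Cfsg.IsPModular p M)

include hM

/-- Sums over the complement of the centralizer of `a` project onto the principal block. -/
theorem section_data {a : G} (ha : orderOf a = p) :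
    ∃ (K : Finset G), 1 ∈ K ∧ (∀ k ∈ K, Commute a k ∧ ¬ p ∣ orderOf k) ∧
      (∀ k, Commute a k → ¬ p ∣ orderOf k → k ∈ K) ∧
      K.card * Nat.card (P : Subgroup G) = Nat.card (Subgroup.centralizer ({a} : Set G)) ∧
      ∀ χ : Cfsg.IrrCharacter G, ∑ k ∈ K, (χ : G → ℂ) (a * k) =
        if χ ∈ pBlock M G then (K.card : ℂ) * (χ : G → ℂ) a else 0 := by
  classical
  obtain ⟨K, hKn, hK, hidx⟩ := hP a ha
  obtain ⟨r, hr⟩ := IsPGroup.iff_card.1 P.2
  rw [hr] at hidx
  refine ⟨univ.image fun k : K => ((k : Subgroup.centralizer ({a} : Set G)) : G), ?_, ?_, ?_, ?_, ?_⟩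
  · exact Finset.mem_image.2 ⟨1, Finset.mem_univ _, rfl⟩
  · intro k hk
    obtain ⟨k, -, rfl⟩ := Finset.mem_image.1 hk
    refine ⟨(Subgroup.mem_centralizer_singleton_iff.1 (k : Subgroup.centralizer ({a} : Set G)).2).symm, ?_⟩
    rw [Subgroup.orderOf_coe]
    exact (CfsgLib.Invol.BlockCol.regular_iff_mem K hK hidx _).2 k.2
  · intro k hk hord
    refine Finset.mem_image.2 ⟨⟨⟨k, Subgroup.mem_centralizer_singleton_iff.2 hk.eq.symm⟩, ?_⟩,
      Finset.mem_univ _, rfl⟩
    refine (CfsgLib.Invol.BlockCol.regular_iff_mem K hK hidx _).1 ?_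
    rwa [Subgroup.orderOf_mk]
  · rw [Finset.card_image_of_injective _ (fun u v h => Subtype.ext (Subtype.ext h)),
      Finset.card_univ, ← Nat.card_eq_fintype_card, hr, ← hidx, K.card_mul_index]
  · intro χ
    rw [Finset.sum_image (fun u _ v _ h => Subtype.ext (Subtype.ext h)),
      CfsgLib.Invol.SectionAverage.sum_section_coset hM ⟨1, by rw [ha, pow_one]⟩ K hK hidx χ,
      Finset.card_image_of_injective _ (fun u v h => Subtype.ext (Subtype.ext h)),
      Finset.card_univ, ← Nat.card_eq_fintype_card]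
    split_ifs <;> rfl

omit hP hM in
theorem mul_eq_of_pow_prime {a k w : G} (ha : orderOf a = p) (hc : Commute a k)
    (hk : ¬ p ∣ orderOf k) (hw : orderOf w = p) {g : G} (h : g * (a * k) * g⁻¹ = w) : k = 1 := by
  have h1 : (g * (a * k) * g⁻¹) ^ p = 1 := by rw [h, ← hw, pow_orderOf_eq_one]
  rw [conj_pow, conj_eq_one_iff, hc.mul_pow, orderOf_dvd_iff_pow_eq_one.1 ha.dvd, one_mul] at h1
  rcases (Nat.dvd_prime (Fact.out : p.Prime)).1 (orderOf_dvd_of_pow_eq_one h1) with h2 | h2
  · exact orderOf_eq_one_iff.1 h2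
  · exact absurd h2.symm.dvd hk

/-- Two columns of the principal block at elements of order `p`. -/
theorem column_pair {a w : G} (ha : orderOf a = p) (hw : orderOf w = p) {k₀ : ℕ}
    (hk₀ : k₀ * Nat.card (P : Subgroup G) = Nat.card (Subgroup.centralizer ({a} : Set G))) :
    (k₀ : ℂ) * ∑ χ ∈ pBlock M G, (χ : G → ℂ) a * conj ((χ : G → ℂ) w) = cnt a w := by
  classical
  obtain ⟨K, h1, hK, -, hcard, hsum⟩ := section_data P hP hM ha
  obtain rfl : k₀ = K.card := Nat.eq_of_mul_eq_mul_right Nat.card_pos (hk₀.trans hcard.symm)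
  calc (K.card : ℂ) * ∑ χ ∈ pBlock M G, (χ : G → ℂ) a * conj ((χ : G → ℂ) w)
      = ∑ χ : Cfsg.IrrCharacter G, (∑ k ∈ K, (χ : G → ℂ) (a * k)) * conj ((χ : G → ℂ) w) := by
        simp only [hsum, ite_mul, zero_mul, Finset.sum_ite_mem, Finset.univ_inter, Finset.mul_sum,
          mul_assoc]
    _ = ∑ k ∈ K, ∑ χ : Cfsg.IrrCharacter G, (χ : G → ℂ) (a * k) * conj ((χ : G → ℂ) w) := by
        simp only [Finset.sum_mul]; exact Finset.sum_comm
    _ = ∑ k ∈ K, (cnt (a * k) w : ℂ) := by
        refine Finset.sum_congr rfl fun k _ => ?_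
        rw [CfsgLib.SmallOrder.sum_mul_conj_eq_card, Nat.card_eq_fintype_card, Fintype.card_subtype,
          cnt]
    _ = cnt a w := by
        rw [Finset.sum_eq_single_of_mem 1 h1 (fun k hk hne => ?_), mul_one]
        rw [Nat.cast_eq_zero, cnt, Finset.card_eq_zero, Finset.filter_eq_empty_iff]
        exact fun g _ hg => hne (mul_eq_of_pow_prime ha (hK k hk).1 (hK k hk).2 hw hg)

/-- The column at an element of order `p` is orthogonal to the degrees in the principal block. -/
theorem column_degree {w : G} (hw : orderOf w = p) :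
    ∑ χ ∈ pBlock M G, (χ : G → ℂ) 1 * (χ : G → ℂ) w = 0 := by
  classical
  obtain ⟨K, h1, hK, -, -, hsum⟩ := section_data P hP hM hw
  have h : (K.card : ℂ) * ∑ χ ∈ pBlock M G, (χ : G → ℂ) 1 * (χ : G → ℂ) w = 0 := by
    calc (K.card : ℂ) * ∑ χ ∈ pBlock M G, (χ : G → ℂ) 1 * (χ : G → ℂ) w
        = ∑ χ : Cfsg.IrrCharacter G, (χ : G → ℂ) 1 * ∑ k ∈ K, (χ : G → ℂ) (w * k) := by
          simp only [hsum, mul_ite, mul_zero, Finset.sum_ite_mem, Finset.univ_inter, Finset.mul_sum]
          exact Finset.sum_congr rfl fun χ _ => by ring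
      _ = ∑ k ∈ K, ∑ χ : Cfsg.IrrCharacter G, (χ : G → ℂ) 1 * (χ : G → ℂ) (w * k) := by
          simp only [Finset.mul_sum]; exact Finset.sum_comm
      _ = 0 := Finset.sum_eq_zero fun k hk => by
          rw [CfsgLib.Char.sum_apply_one_mul, if_neg]
          intro e
          have := (hK k hk).2
          rw [eq_inv_of_mul_eq_one_right e, orderOf_inv, hw] at this
          exact this dvd_rfl
  refine (mul_eq_zero.1 h).resolve_left (Nat.cast_ne_zero.2 (Finset.card_pos.2 ⟨1, h1⟩).ne')

omit hP hM in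
/-- The class sum of the elements of order `p` acts as a scalar. -/
theorem sum_elts_mul (χ : Cfsg.IrrCharacter G) (v : G) :
    (∑ a ∈ elts G p, (χ : G → ℂ) (a * v)) * (χ : G → ℂ) 1 =
      (∑ a ∈ elts G p, (χ : G → ℂ) a) * (χ : G → ℂ) v := by
  have hG : (Fintype.card G : ℂ) ≠ 0 := Nat.cast_ne_zero.2 Fintype.card_ne_zero
  refine mul_left_cancel₀ hG ?_
  have hperm : ∀ c : G, ∑ a ∈ elts G p, (χ : G → ℂ) (c * a * c⁻¹ * v) =
      ∑ a ∈ elts G p, (χ : G → ℂ) (a * v) := by
    intro c
    refine Finset.sum_equiv (MulAut.conj c).toEquiv (fun a => ?_) (fun a _ => by simp)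
    simp only [mem_elts, MulEquiv.toEquiv_eq_coe, EquivLike.coe_coe]
    rw [show orderOf (MulAut.conj c a) = orderOf a from
      orderOf_injective (MulAut.conj c).toMonoidHom (MulAut.conj c).injective a]
  calc (Fintype.card G : ℂ) * ((∑ a ∈ elts G p, (χ : G → ℂ) (a * v)) * (χ : G → ℂ) 1)
      = (∑ c : G, ∑ a ∈ elts G p, (χ : G → ℂ) (c * a * c⁻¹ * v)) * (χ : G → ℂ) 1 := by
        rw [Finset.sum_congr rfl fun c _ => hperm c, Finset.sum_const, Finset.card_univ,
          nsmul_eq_mul, mul_assoc]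
    _ = ∑ a ∈ elts G p, (∑ c : G, (χ : G → ℂ) (c * a * c⁻¹ * v)) * (χ : G → ℂ) 1 := by
        rw [Finset.sum_comm, Finset.sum_mul]
    _ = _ := by
        rw [Finset.sum_congr rfl fun a _ => CfsgLib.Blk83.sum_conj_mul χ a v, Finset.sum_mul,
          Finset.mul_sum]

omit hP hM in
theorem exists_exponent :
    ∃ (m : ℕ), m % p = 1 ∧ ∀ g : G, ¬ p ∣ orderOf g → g ^ m = 1 := by
  have hp : p.Prime := Fact.out
  obtain ⟨r, hr, hpr⟩ : ∃ r, r ∣ Nat.card G ∧ (¬ p ∣ r ∧ ∀ g : G, ¬ p ∣ orderOf g → orderOf g ∣ r) := by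
    refine ⟨Nat.card G / p ^ (Nat.card G).factorization p, Nat.ordCompl_dvd _ _,
      Nat.not_dvd_ordCompl hp Nat.card_pos.ne', fun g hg => ?_⟩
    have h := Nat.ordProj_mul_ordCompl_eq_self (Nat.card G) p
    exact ((hp.coprime_iff_not_dvd.2 hg).pow_left _).symm.dvd_of_dvd_mul_left
      (h.symm ▸ orderOf_dvd_natCard g)
  obtain ⟨m, hm1, hm2⟩ := Nat.chineseRemainder (hp.coprime_iff_not_dvd.2 hpr.1) 1 0
  refine ⟨m, ?_, fun g hg => orderOf_dvd_iff_pow_eq_one.1
    ((hpr.2 g hg).trans ((Nat.modEq_zero_iff_dvd).1 hm2))⟩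
  rw [hm1, Nat.mod_eq_of_lt hp.one_lt]

/-- The cubic moment: pairs of elements of order `p` with `p`-singular product. -/
theorem cubic {k₀ : ℕ}
    (hk₀ : ∀ a : G, orderOf a = p →
      k₀ * Nat.card (P : Subgroup G) = Nat.card (Subgroup.centralizer ({a} : Set G)))
    (hp' : ∀ a b : G, orderOf a = p → orderOf b = p → ¬ p ∣ orderOf ((a * b) ^ p))
    (hreal : ∀ χ : Cfsg.IrrCharacter G,
      conj (∑ a ∈ elts G p, (χ : G → ℂ) a) = ∑ a ∈ elts G p, (χ : G → ℂ) a) :
    (Fintype.card G : ℂ) *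
        ((∑ a ∈ elts G p, ((elts G p).filter fun b => p ∣ orderOf (a * b)).card : ℕ) : ℂ) =
      (k₀ : ℂ) * ∑ χ ∈ pBlock M G, (∑ a ∈ elts G p, (χ : G → ℂ) a) ^ 3 / (χ : G → ℂ) 1 := by
  classical
  have hp : p.Prime := Fact.out
  obtain ⟨m, hm, hmreg⟩ := exists_exponent (G := G) (p := p)
  have hdata := fun a : {a : G // orderOf a = p} => section_data P hP hM a.2
  choose K h1 hK hK' hcard hsum using hdata
  have hKc : ∀ a, (K a).card = k₀ := fun a =>
    Nat.eq_of_mul_eq_mul_right Nat.card_pos ((hcard a).trans (hk₀ _ a.2).symm)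
  let W : Finset (Σ _ : {a : G // orderOf a = p}, G) := (univ : Finset {a : G // orderOf a = p}).sigma K
  have hpowm : ∀ w : G, orderOf w = p → w ^ m = w := fun w hw => by
    rw [← pow_mod_orderOf, hw, hm, pow_one]
  -- a product is `p`-singular exactly when it is uniquely `w * k`
  have hone : ∀ a b : G, orderOf a = p → orderOf b = p →
      ((W.filter fun wk => wk.1.1 * wk.2 = a * b).card : ℕ) =
        if p ∣ orderOf (a * b) then 1 else 0 := by
    intro a b ha hb
    have hrec : ∀ wk ∈ W, wk.1.1 * wk.2 = a * b → wk.1.1 = (a * b) ^ m := by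
      intro wk hwk he
      have hk := hK wk.1 wk.2 (Finset.mem_sigma.1 hwk).2
      rw [← he, hk.1.mul_pow, hpowm _ wk.1.2, hmreg _ hk.2, mul_one]
    split_ifs with hd
    · rw [Finset.card_eq_one]
      have hreg := hp' a b ha hb
      have hwp : ((a * b) ^ m) ^ p = 1 := by
        rw [← pow_mul, mul_comm, pow_mul]
        exact hmreg _ hreg
      have hw : orderOf ((a * b) ^ m) = p := by
        refine orderOf_eq_prime hwp fun h => ?_
        have h2 := (Nat.dvd_trans hd (orderOf_dvd_of_pow_eq_one h))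
        rw [Nat.dvd_iff_mod_eq_zero, hm] at h2
        exact one_ne_zero h2
      have hm1 : 1 ≤ m := by
        rcases Nat.eq_zero_or_pos m with h | h
        · rw [h, Nat.zero_mod] at hm
          exact absurd hm zero_ne_one
        · exact h
      obtain ⟨c, hc⟩ : p ∣ m - 1 := by
        have h2 := Nat.div_add_mod m p
        rw [hm] at h2
        exact ⟨m / p, by omega⟩
      set k := ((a * b) ^ (m - 1))⁻¹ with hk
      have hkK : k ∈ K ⟨(a * b) ^ m, hw⟩ := by
        refine hK' _ k ((Commute.pow_pow (Commute.refl _) _ _).inv_right) ?_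
        rw [hk, orderOf_inv, hc, pow_mul]
        exact fun h => hreg (h.trans (orderOf_pow_dvd c))
      have hmul : (a * b) ^ m * k = a * b := by
        rw [hk, mul_inv_eq_iff_eq_mul, ← pow_succ', Nat.sub_add_cancel hm1]
      refine ⟨⟨⟨(a * b) ^ m, hw⟩, k⟩, Finset.eq_singleton_iff_unique_mem.2
        ⟨Finset.mem_filter.2 ⟨Finset.mem_sigma.2 ⟨Finset.mem_univ _, hkK⟩, hmul⟩, ?_⟩⟩
      rintro ⟨⟨w, hw'⟩, k'⟩ hwk
      obtain ⟨hmem, he⟩ := Finset.mem_filter.1 hwk
      obtain rfl : w = (a * b) ^ m := hrec _ hmem he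
      simp only at he
      obtain rfl : k' = k := mul_left_cancel (he.trans hmul.symm)
      rfl
    · rw [Finset.card_eq_zero, Finset.filter_eq_empty_iff]
      intro wk hwk he
      have h := hrec wk hwk he
      have hwo := wk.1.2
      rw [h, hmreg _ hd, orderOf_one] at hwo
      exact hp.ne_one hwo.symm
  have hS : ∀ χ : Cfsg.IrrCharacter G,
      ∑ wk ∈ W, conj ((χ : G → ℂ) (wk.1.1 * wk.2)) =
        if χ ∈ pBlock M G then (k₀ : ℂ) * ∑ a ∈ elts G p, (χ : G → ℂ) a else 0 := by
    intro χ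
    simp only [W, Finset.sum_sigma, ← map_sum, hsum, hKc]
    split_ifs with hχ
    · rw [← Finset.mul_sum, map_mul, map_natCast,
        ← Finset.sum_subtype (elts G p) (fun a => mem_elts) (fun a => (χ : G → ℂ) a), hreal]
    · simp
  have hstep : ∀ χ : Cfsg.IrrCharacter G,
      ∑ a ∈ elts G p, ∑ b ∈ elts G p, ∑ wk ∈ W,
          (χ : G → ℂ) 1 * (χ : G → ℂ) (a * b * (wk.1.1 * wk.2)⁻¹) =
        (∑ a ∈ elts G p, (χ : G → ℂ) a) ^ 2 / (χ : G → ℂ) 1 *
          ∑ wk ∈ W, conj ((χ : G → ℂ) (wk.1.1 * wk.2)) := by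
    intro χ
    have hd := CfsgLib.Char.IsIrrCharacter.apply_one_ne_zero χ.2
    rw [Finset.sum_congr rfl fun a _ => Finset.sum_comm, Finset.sum_comm, Finset.mul_sum]
    refine Finset.sum_congr rfl fun wk _ => ?_
    rw [← CfsgLib.Char.IsIrrCharacter.apply_inv χ.2]
    have h2 : ∀ a : G, ∑ b ∈ elts G p, (χ : G → ℂ) 1 * (χ : G → ℂ) (a * b * (wk.1.1 * wk.2)⁻¹) =
        (∑ b ∈ elts G p, (χ : G → ℂ) b) * (χ : G → ℂ) (a * (wk.1.1 * wk.2)⁻¹) := by
      intro a
      rw [← Finset.mul_sum, mul_comm]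
      have h3 := sum_elts_mul (p := p) χ ((wk.1.1 * wk.2)⁻¹ * a)
      rw [CfsgLib.Char.IsClassFunction.mul_comm' (CfsgLib.Char.IsIrrCharacter.isClassFunction χ.2) ((wk.1.1 * wk.2)⁻¹) a] at h3
      rw [← h3]
      congr 1
      refine Finset.sum_congr rfl fun b _ => ?_
      rw [mul_assoc a, CfsgLib.Char.IsClassFunction.mul_comm' (CfsgLib.Char.IsIrrCharacter.isClassFunction χ.2) a, mul_assoc]
    rw [Finset.sum_congr rfl fun a _ => h2 a, ← Finset.mul_sum, div_mul_eq_mul_div,
      eq_div_iff hd, mul_assoc, sum_elts_mul, sq, mul_assoc]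
  calc (Fintype.card G : ℂ) *
        ((∑ a ∈ elts G p, ((elts G p).filter fun b => p ∣ orderOf (a * b)).card : ℕ) : ℂ)
      = ∑ a ∈ elts G p, ∑ b ∈ elts G p, ∑ wk ∈ W,
          (if a * b * (wk.1.1 * wk.2)⁻¹ = 1 then (Nat.card G : ℂ) else 0) := by
        rw [Nat.cast_sum, Finset.mul_sum, Nat.card_eq_fintype_card]
        refine Finset.sum_congr rfl fun a ha => ?_
        rw [Finset.card_filter, Nat.cast_sum, Finset.mul_sum]
        refine Finset.sum_congr rfl fun b hb => ?_
        rw [← hone a b (mem_elts.1 ha) (mem_elts.1 hb), ← Finset.sum_filter, Finset.sum_const,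
          nsmul_eq_mul, mul_comm]
        congr 2
        refine congrArg Finset.card (Finset.filter_congr fun wk _ => ?_)
        rw [mul_inv_eq_one]
        exact eq_comm
    _ = ∑ χ : Cfsg.IrrCharacter G, ∑ a ∈ elts G p, ∑ b ∈ elts G p, ∑ wk ∈ W,
          (χ : G → ℂ) 1 * (χ : G → ℂ) (a * b * (wk.1.1 * wk.2)⁻¹) := by
        symm
        rw [Finset.sum_comm]
        refine Finset.sum_congr rfl fun a _ => ?_
        rw [Finset.sum_comm]
        refine Finset.sum_congr rfl fun b _ => ?_
        rw [Finset.sum_comm]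
        exact Finset.sum_congr rfl fun wk _ => CfsgLib.Char.sum_apply_one_mul _
    _ = ∑ χ : Cfsg.IrrCharacter G, (∑ a ∈ elts G p, (χ : G → ℂ) a) ^ 2 / (χ : G → ℂ) 1 *
          (if χ ∈ pBlock M G then (k₀ : ℂ) * ∑ a ∈ elts G p, (χ : G → ℂ) a else 0) :=
        Finset.sum_congr rfl fun χ _ => by rw [hstep, hS]
    _ = _ := by
        simp only [mul_ite, mul_zero, Finset.sum_ite_mem, Finset.univ_inter]
        rw [Finset.mul_sum]
        exact Finset.sum_congr rfl fun χ _ => by ring

omit hP hM in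
/-- With at most one regular product in every subgroup of order `p`, regular pairs are few. -/
theorem regular_pairs_le (a : G)
    (hpair : ∀ b : G, orderOf b = p → ∀ i ∈ Finset.Icc 1 (p - 1), ∀ j ∈ Finset.Icc 1 (p - 1),
      ¬ p ∣ orderOf (a * b ^ i) → ¬ p ∣ orderOf (a * b ^ j) → i = j) :
    (p - 1) * ((elts G p).filter fun b => ¬ p ∣ orderOf (a * b)).card ≤ (elts G p).card := by
  have hp : p.Prime := Fact.out
  have hperm : ∀ j ∈ Finset.Icc 1 (p - 1),
      ((elts G p).filter fun b => ¬ p ∣ orderOf (a * b)).card ≤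
        ((elts G p).filter fun b => ¬ p ∣ orderOf (a * b ^ j)).card := by
    intro j hj
    have hjp : p.Coprime j := hp.coprime_iff_not_dvd.2 fun h => by
      have := Nat.le_of_dvd (Finset.mem_Icc.1 hj).1 h
      have := (Finset.mem_Icc.1 hj).2
      have := hp.two_le
      omega
    obtain ⟨i, -, hi⟩ := Nat.exists_mul_mod_eq_one_of_coprime hjp.symm hp.one_lt
    have hback : ∀ b : G, orderOf b = p → (b ^ i) ^ j = b := fun b hb => by
      rw [← pow_mul, ← pow_mod_orderOf, hb, mul_comm, hi, pow_one]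
    refine Finset.card_le_card_of_injOn (fun b => b ^ i) ?_ ?_
    · intro b hb
      simp only [Finset.mem_coe, Finset.mem_filter, mem_elts] at hb ⊢
      refine ⟨orderOf_eq_prime (by rw [← pow_mul, mul_comm, pow_mul, ← hb.1, pow_orderOf_eq_one,
        one_pow]) fun h => ?_, by rw [hback b hb.1]; exact hb.2⟩
      have h1 := hback b hb.1
      rw [h, one_pow] at h1
      have h2 := hb.1
      rw [← h1, orderOf_one] at h2
      exact hp.ne_one h2.symm
    · intro b hb c hc h
      simp only [Finset.mem_coe, Finset.mem_filter, mem_elts] at hb hc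
      have h' : (b ^ i) ^ j = (c ^ i) ^ j := congrArg (· ^ j) h
      rwa [hback b hb.1, hback c hc.1] at h'
  calc (p - 1) * ((elts G p).filter fun b => ¬ p ∣ orderOf (a * b)).card
      ≤ ∑ j ∈ Finset.Icc 1 (p - 1), ((elts G p).filter fun b => ¬ p ∣ orderOf (a * b ^ j)).card := by
        refine le_of_eq_of_le ?_ (Finset.sum_le_sum hperm)
        rw [Finset.sum_const, Nat.card_Icc, smul_eq_mul, Nat.add_sub_cancel]
    _ = ∑ b ∈ elts G p, ((Finset.Icc 1 (p - 1)).filter fun j => ¬ p ∣ orderOf (a * b ^ j)).card := by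
        simp only [Finset.card_filter]; exact Finset.sum_comm
    _ ≤ ∑ b ∈ elts G p, 1 := Finset.sum_le_sum fun b hb => Finset.card_le_one.2 fun i hi j hj =>
        hpair b (mem_elts.1 hb) i (Finset.mem_filter.1 hi).1 j (Finset.mem_filter.1 hj).1
          (Finset.mem_filter.1 hi).2 (Finset.mem_filter.1 hj).2
    _ = _ := by simp

omit hP hM in
/-- With one regular product in every subgroup of order `p`, the singular pairs are counted. -/
theorem singular_count
    (hpair : ∀ a b : G, orderOf a = p → orderOf b = p → ∃ j₀ ∈ Finset.Icc 1 (p - 1),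
      ∀ j ∈ Finset.Icc 1 (p - 1), (¬ p ∣ orderOf (a * b ^ j) ↔ j = j₀)) :
    (p - 1) * (∑ a ∈ elts G p, ((elts G p).filter fun b => p ∣ orderOf (a * b)).card) =
      (p - 2) * (elts G p).card ^ 2 := by
  have hp : p.Prime := Fact.out
  have hone : ∀ a ∈ elts G p,
      (p - 1) * ((elts G p).filter fun b => p ∣ orderOf (a * b)).card = (p - 2) * (elts G p).card := by
    intro a ha
    have hR : (p - 1) * ((elts G p).filter fun b => ¬ p ∣ orderOf (a * b)).card = (elts G p).card := by
      have hperm : ∀ j ∈ Finset.Icc 1 (p - 1),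
          ((elts G p).filter fun b => ¬ p ∣ orderOf (a * b ^ j)).card =
            ((elts G p).filter fun b => ¬ p ∣ orderOf (a * b)).card := by
        intro j hj
        have hjp : p.Coprime j := hp.coprime_iff_not_dvd.2 fun h => by
          have := Nat.le_of_dvd (Finset.mem_Icc.1 hj).1 h
          have := (Finset.mem_Icc.1 hj).2
          have := hp.two_le
          omega
        obtain ⟨i, -, hi⟩ := Nat.exists_mul_mod_eq_one_of_coprime hjp.symm hp.one_lt
        have hoj : ∀ b : G, orderOf b = p → orderOf (b ^ j) = p := fun b hb => by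
          rw [orderOf_pow, hb, hjp.gcd_eq_one, Nat.div_one]
        have hoi : ∀ b : G, orderOf b = p → orderOf (b ^ i) = p ∧ (b ^ i) ^ j = b ∧ (b ^ j) ^ i = b := by
          intro b hb
          have hpi : (b ^ i) ^ j = b := by
            rw [← pow_mul, ← pow_mod_orderOf, hb, mul_comm, hi, pow_one]
          refine ⟨?_, hpi, by rw [← pow_mul, ← pow_mod_orderOf, hb, hi, pow_one]⟩
          refine orderOf_eq_prime (by rw [← pow_mul, mul_comm, pow_mul, ← hb, pow_orderOf_eq_one,
            one_pow]) fun h => ?_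
          rw [h, one_pow] at hpi
          rw [← hpi, orderOf_one] at hb
          exact hp.ne_one hb.symm
        refine Finset.card_nbij' (fun b => b ^ j) (fun b => b ^ i) ?_ ?_ ?_ ?_
        · intro b hb
          simp only [Finset.mem_coe, Finset.mem_filter, mem_elts] at hb ⊢
          exact ⟨hoj b hb.1, hb.2⟩
        · intro b hb
          simp only [Finset.mem_coe, Finset.mem_filter, mem_elts] at hb ⊢
          obtain ⟨h1, h2, -⟩ := hoi b hb.1
          exact ⟨h1, by rw [h2]; exact hb.2⟩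
        · intro b hb
          simp only [Finset.mem_coe, Finset.mem_filter, mem_elts] at hb
          exact (hoi b hb.1).2.2
        · intro b hb
          simp only [Finset.mem_coe, Finset.mem_filter, mem_elts] at hb
          exact (hoi b hb.1).2.1
      calc (p - 1) * ((elts G p).filter fun b => ¬ p ∣ orderOf (a * b)).card
          = ∑ j ∈ Finset.Icc 1 (p - 1), ((elts G p).filter fun b => ¬ p ∣ orderOf (a * b ^ j)).card := by
            rw [Finset.sum_congr rfl hperm, Finset.sum_const, Nat.card_Icc, smul_eq_mul,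
              Nat.add_sub_cancel]
        _ = ∑ b ∈ elts G p, ((Finset.Icc 1 (p - 1)).filter fun j => ¬ p ∣ orderOf (a * b ^ j)).card := by
            simp only [Finset.card_filter]; exact Finset.sum_comm
        _ = ∑ b ∈ elts G p, 1 := by
            refine Finset.sum_congr rfl fun b hb => ?_
            obtain ⟨j₀, hj₀, hiff⟩ := hpair a b (mem_elts.1 ha) (mem_elts.1 hb)
            rw [Finset.card_eq_one]
            refine ⟨j₀, Finset.eq_singleton_iff_unique_mem.2 ⟨Finset.mem_filter.2
              ⟨hj₀, (hiff j₀ hj₀).2 rfl⟩, fun j hj => ?_⟩⟩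
            exact (hiff j (Finset.mem_filter.1 hj).1).1 (Finset.mem_filter.1 hj).2
        _ = _ := by simp
    have h := Finset.card_filter_add_card_filter_not (s := elts G p)
      (fun b => p ∣ orderOf (a * b))
    have h2 : (p - 1) * ((elts G p).filter fun b => p ∣ orderOf (a * b)).card + (elts G p).card =
        (p - 2) * (elts G p).card + (elts G p).card := by
      conv_lhs => arg 2; rw [← hR]
      rw [← Nat.mul_add, h, show p - 1 = (p - 2) + 1 from by have := hp.two_le; omega, Nat.add_mul,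
        one_mul]
    exact Nat.add_right_cancel h2
  rw [Finset.mul_sum, Finset.sum_congr rfl hone, Finset.sum_const, smul_eq_mul]
  ring

end CfsgLib.Case.CyclicPairs
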