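import Cfsg.Agent.Lib.Case.CyclicPairs.Main
import Cfsg.Agent.Lib.Case.TwoNilpotent
import Cfsg.Agent.Lib.Fusion.PSolvAut
import Cfsg.Agent.Lib.PLocal.PSolvable

/-!
Reduction to simple groups: a group with cyclic Sylow `p`-subgroups in which any two elements of
order `p` generate a `p`-solvable subgroup is `p`-solvable.
-/

set_option autoImplicit false

namespace CfsgLib.Case.CyclicPairs

universe u

open CfsgLib.Fusion.PSolv

variable {p : ℕ} [Fact p.Prime]

/-- A group with a normal subgroup of order `p` and cyclic Sylow `p`-subgroups is `p`-solvable. -/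
theorem isPSolvable_of_normal_order_p {G : Type u} [Group G] [Finite G] (P : Sylow p G)
    (hP : IsCyclic (P : Subgroup G)) {x : G} (hx : orderOf x = p)
    (hn : (Subgroup.zpowers x).Normal) : Cfsg.IsPSolvable p G := by
  have hp : p.Prime := Fact.out
  haveI := hn
  set C := Subgroup.centralizer ({x} : Set G) with hC
  obtain ⟨K, hKn, hK, hKi⟩ := exists_complement P hP hx
  obtain ⟨r, hr⟩ := IsPGroup.iff_card.1 P.2
  have hCs : Cfsg.IsPSolvable p C := CfsgLib.PLocal.isPSolvable_of_normal_two_step K
    (hp.coprime_iff_not_dvd.2 hK).symm (IsPGroup.of_card (n := r) (by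
      rw [← Subgroup.index_eq_card, hKi, hr]))
  have hCeq : C = Subgroup.centralizer (Subgroup.zpowers x : Set G) := by
    rw [hC, Subgroup.zpowers_eq_closure, Subgroup.centralizer_closure]
  haveI : C.Normal := by rw [hCeq]; infer_instance
  refine isPSolvable_of_normal C hCs (isPSolvable_of_pGroup_or_coprime (Or.inr ?_))
  -- `G/C` embeds into the automorphisms of a group of order `p`
  haveI hcA : IsCyclic (Subgroup.zpowers x) := inferInstance
  set φ : G →* MulAut (Subgroup.zpowers x) := MulAut.conjNormal with hφ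
  have hker : φ.ker = C := by
    ext g
    rw [MonoidHom.mem_ker, hC, Subgroup.mem_centralizer_singleton_iff]
    constructor
    · intro h
      have h2 := congrArg (fun f : MulAut (Subgroup.zpowers x) =>
        ((f ⟨x, Subgroup.mem_zpowers x⟩ : Subgroup.zpowers x) : G)) h
      simp only [hφ, MulAut.conjNormal_apply, MulAut.one_apply] at h2
      exact mul_inv_eq_iff_eq_mul.1 h2
    · intro h
      refine MulEquiv.ext fun y => Subtype.ext ?_
      obtain ⟨i, hi⟩ := Subgroup.mem_zpowers_iff.1 y.2
      simp only [hφ, MulAut.conjNormal_apply, MulAut.one_apply, ← hi]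
      rw [(Commute.zpow_right h i : Commute g (x ^ i)).eq, mul_inv_cancel_right]
  have hcard : Nat.card (G ⧸ C) ∣ p - 1 := by
    rw [← Subgroup.index_eq_card, ← hker, Subgroup.index_ker]
    refine (Subgroup.card_subgroup_dvd_card φ.range).trans ?_
    rw [IsCyclic.card_mulAut (Subgroup.zpowers x), Nat.card_zpowers, hx, Nat.totient_prime hp]
  refine Nat.Coprime.coprime_dvd_left hcard (hp.coprime_iff_not_dvd.2 fun h => ?_).symm
  have := Nat.le_of_dvd (by have := hp.two_le; omega) h
  have := hp.two_le
  omega

theorem isPSolvable_of_pairs_aux : ∀ (N : ℕ) (G : Type u) [Group G] [Finite G], Nat.card G = N →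
    ∀ P : Sylow p G, IsCyclic (P : Subgroup G) →
      (∀ x y : G, orderOf x = p → orderOf y = p →
        Cfsg.IsPSolvable p (Subgroup.closure ({x, y} : Set G))) → Cfsg.IsPSolvable p G := by
  intro N
  induction N using Nat.strong_induction_on with
  | _ N ih =>
  intro G _ _ hN P hP hyp
  have hp : p.Prime := Fact.out
  by_cases hdvd : p ∣ Nat.card G
  swap
  · exact isPSolvable_of_pGroup_or_coprime (Or.inr (hp.coprime_iff_not_dvd.2 hdvd).symm)
  -- case 1: a normal subgroup of order prime to p
  have hcase1 : ∀ L : Subgroup G, L.Normal → L ≠ ⊥ → (Nat.card L).Coprime p →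
      Cfsg.IsPSolvable p G := by
    intro L hL hLne hLc
    haveI := hL
    refine isPSolvable_of_bot_quotient L (Or.inr hLc) ?_
    have hlt : Nat.card (G ⧸ L) < N := by
      rw [← hN, ← Subgroup.card_mul_index L, ← Subgroup.index_eq_card]
      exact lt_mul_left (Nat.pos_of_ne_zero Subgroup.index_ne_zero_of_finite)
        (Subgroup.one_lt_card_iff_ne_bot L |>.2 hLne)
    have hf : Function.Surjective (QuotientGroup.mk' L) := QuotientGroup.mk'_surjective L
    refine ih _ hlt (G ⧸ L) rfl (P.mapSurjective hf)
      (isCyclic_of_surjective ((QuotientGroup.mk' L).subgroupMap (P : Subgroup G))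
        ((QuotientGroup.mk' L).subgroupMap_surjective _)) fun a b ha hb => ?_
    have hlift : ∀ c : G ⧸ L, orderOf c = p → ∃ y : G, orderOf y = p ∧ QuotientGroup.mk' L y = c := by
      intro c hc
      obtain ⟨g, rfl⟩ := hf c
      obtain ⟨i, -, hi⟩ := Nat.exists_mul_mod_eq_one_of_coprime hLc hp.one_lt
      have himg : QuotientGroup.mk' L ((g ^ Nat.card L) ^ i) = QuotientGroup.mk' L g := by
        rw [map_pow, map_pow, ← pow_mul, ← pow_mod_orderOf, hc, hi, pow_one]
      refine ⟨(g ^ Nat.card L) ^ i, orderOf_eq_prime ?_ (fun h => ?_), himg⟩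
      · have hgL : g ^ p ∈ L := (QuotientGroup.eq_one_iff _).1 (by
          rw [← QuotientGroup.mk'_apply, map_pow, ← hc, pow_orderOf_eq_one])
        have h2 : (g ^ p) ^ Nat.card L = 1 :=
          orderOf_dvd_iff_pow_eq_one.1 (Subgroup.orderOf_dvd_natCard L hgL)
        rw [← pow_mul, ← pow_mul, show Nat.card L * (i * p) = p * Nat.card L * i by ring, pow_mul,
          pow_mul, h2, one_pow]
      · rw [h, map_one] at himg
        rw [← himg, orderOf_one] at hc
        exact hp.ne_one hc.symm
    obtain ⟨a', ha', rfl⟩ := hlift a ha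
    obtain ⟨b', hb', rfl⟩ := hlift b hb
    have himage : (Subgroup.closure ({a', b'} : Set G)).map (QuotientGroup.mk' L) =
        Subgroup.closure ({QuotientGroup.mk' L a', QuotientGroup.mk' L b'} : Set (G ⧸ L)) := by
      rw [MonoidHom.map_closure, Set.image_pair]
    rw [← himage]
    exact CfsgLib.PLoc.isPSolvable_of_surjective
      ((QuotientGroup.mk' L).subgroupMap_surjective _) (hyp a' b' ha' hb')
  -- case 2: a normal p-subgroup
  have hcase2 : ∀ L : Subgroup G, L.Normal → L ≠ ⊥ → IsPGroup p L → Cfsg.IsPSolvable p G := by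
    intro L hL hLne hLp
    obtain ⟨⟨x, hxL⟩, hx⟩ := exists_prime_orderOf_dvd_card' (G := L) p
      (hLp.card_eq_or_dvd.resolve_left fun h => hLne (Subgroup.card_eq_one.1 h))
    rw [Subgroup.orderOf_mk] at hx
    refine isPSolvable_of_normal_order_p P hP hx ⟨fun y hy g => ?_⟩
    have hxc : g * x * g⁻¹ ∈ Subgroup.zpowers x := by
      rw [zpowers_eq_of_mem_pGroup P hP hLp hxL (hL.conj_mem x hxL g) hx
        ((orderOf_injective (MulAut.conj g).toMonoidHom (MulAut.conj g).injective x).trans hx)]
      exact Subgroup.mem_zpowers _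
    obtain ⟨i, rfl⟩ := Subgroup.mem_zpowers_iff.1 hy
    rw [← conj_zpow]
    exact zpow_mem hxc i
  -- the hypothesis passes to subgroups
  have hsub : ∀ L : Subgroup G, Nat.card L < N → Cfsg.IsPSolvable p L := by
    intro L hlt
    obtain ⟨R⟩ : Nonempty (Sylow p L) := inferInstance
    refine ih _ hlt L rfl R ?_ fun a b ha hb => ?_
    · haveI := isCyclic_of_isPGroup P hP (R.2.map L.subtype)
      exact isCyclic_of_injective (L.subtype.subgroupMap (R : Subgroup L)) fun u v h =>
        Subtype.ext (L.subtype_injective (congrArg Subtype.val h :))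
    · have himage : (Subgroup.closure ({a, b} : Set L)).map L.subtype =
          Subgroup.closure ({(a : G), (b : G)} : Set G) := by
        rw [MonoidHom.map_closure, Set.image_pair]; rfl
      refine CfsgLib.PLocal.isPSolvable_of_injective
        (f := (MulEquiv.subgroupCongr himage).toMonoidHom.comp
          ((Subgroup.closure ({a, b} : Set L)).equivMapOfInjective L.subtype
            L.subtype_injective).toMonoidHom) ?_
        (hyp a b (by rw [Subgroup.orderOf_coe]; exact ha) (by rw [Subgroup.orderOf_coe]; exact hb))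
      exact (MulEquiv.subgroupCongr himage).injective.comp (MulEquiv.injective _)
  by_cases hnorm : ∃ L : Subgroup G, L.Normal ∧ L ≠ ⊥ ∧ L ≠ ⊤
  · obtain ⟨L, hL, hLb, hLt⟩ := hnorm
    haveI := hL
    have hlt : Nat.card L < N := by
      rw [← hN]
      exact lt_of_le_of_ne (Nat.le_of_dvd Nat.card_pos (Subgroup.card_subgroup_dvd_card L))
        fun h => hLt (Subgroup.eq_top_of_card_eq L h)
    haveI : Nontrivial L := (Subgroup.nontrivial_iff_ne_bot L).2 hLb
    obtain ⟨L', hL'b, hL'c, hL'⟩ := exists_core_ne_bot (hsub L hlt)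
    haveI := hL'c
    have hn : (L'.map L.subtype).Normal := ConjAct.normal_of_characteristic_of_normal
    have hne : L'.map L.subtype ≠ ⊥ := fun h =>
      hL'b ((Subgroup.map_eq_bot_iff_of_injective _ L.subtype_injective).1 h)
    rcases hL' with h | h
    · exact hcase2 _ hn hne (h.map _)
    · exact hcase1 _ hn hne (by rwa [Subgroup.card_map_of_injective L.subtype_injective])
  -- the group is simple
  haveI : Nontrivial G := Finite.one_lt_card_iff_nontrivial.1
    (lt_of_lt_of_le hp.one_lt (Nat.le_of_dvd Nat.card_pos hdvd))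
  have hs : IsSimpleGroup G := ⟨fun L hL => or_iff_not_imp_left.2 fun h =>
    by_contra fun h' => hnorm ⟨L, hL, h, h'⟩⟩
  by_cases hc : IsMulCommutative G
  · exact hcase2 _ inferInstance (fun h => by
      have := P.card_eq_multiplicity
      rw [h, Subgroup.card_bot] at this
      have h3 := Nat.Prime.factorization_pos_of_dvd hp Nat.card_pos.ne' hdvd
      have := Nat.one_lt_pow h3.ne' hp.one_lt
      omega) P.2
  rcases eq_or_ne p 2 with rfl | hp2
  · obtain ⟨l, hl⟩ := CfsgLib.Case.index_oddCore_of_cyclic (P : Subgroup G) P.2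
      (Nat.odd_iff.2 (Nat.two_dvd_ne_zero.1 P.not_dvd_index)) hP
    haveI := CfsgLib.Solvable.pPrimeCore_normal 2 G
    refine CfsgLib.PLocal.isPSolvable_of_normal_two_step (Cfsg.pPrimeCore 2 G)
      (CfsgLib.Solvable.pPrimeCore_card_coprime 2 G) (IsPGroup.of_card (n := l) ?_)
    rw [← Subgroup.index_eq_card, hl]
  classical
  cases nonempty_fintype G
  exact (false_of_pairs hs hc P hP hdvd hp2
    fun a b ha hb => pair_of_isPSolvable P hP ha hb (hyp a b ha hb)).elim

theorem isPSolvable_of_pairs {G : Type u} [Group G] [Finite G] (P : Sylow p G)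
    (hP : IsCyclic (P : Subgroup G))
    (hyp : ∀ x y : G, orderOf x = p → orderOf y = p →
      Cfsg.IsPSolvable p (Subgroup.closure ({x, y} : Set G))) : Cfsg.IsPSolvable p G :=
  isPSolvable_of_pairs_aux _ G rfl P hP hyp

end CfsgLib.Case.CyclicPairs
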